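import Cfsg.Agent.UGT.SL.GamL2
import Cfsg.Agent.GH.L2AutF
import Cfsg.Agent.TwoFusion.SLTwoFacts
import Cfsg.Agent.GH.L2AutSyl

/-!
# Facts on `L ≅ PSL(2,F)` and `PGL(2,F) ≤ Aut(L)`

* `solv`: the centralizer in `Aut(L)` of an involution of `PGL` contains no perfect group;
* `field`: an involution outside `PGL` centralizes a perfect group of even order (`|F| ≥ 11`);
* `rank`: `PGL` has 2-rank at most 2;
* `isSimple`, `four`, `fixed`.
-/

set_option autoImplicit false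

namespace Cfsg.Agent.UGT.TT.PGLSolv

open Matrix Cfsg.Agent.Lib.SL2Mat Cfsg.Agent.Lib.AutSL2 Cfsg.Agent.Lib.AutSL2Out
open Cfsg.Agent.GH.L2Aut Cfsg.Agent.UGT.SL
open Cfsg.Agent.GH.L2Aut.Rep (conj_comm_iff)
open scoped commutatorElement

/-- A group `J` all of whose elements are in an abelian `A` or are of order at most 2 and invert `A` is not perfect. -/
theorem eq_bot_of_dih {G : Type*} [Group G] {A J : Subgroup G} (hA : ∀ x ∈ A, ∀ y ∈ A, x * y = y * x)
    (hJ : ∀ x ∈ J, x ∈ A ∨ (x * x = 1 ∧ ∀ y ∈ A, x * y * x⁻¹ = y⁻¹)) (hp : J ≤ ⁅J, J⁆) : J = ⊥ := by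
  have hs : ∀ x ∈ J, (∀ a ∈ A, x * a * x⁻¹ = a) ∨ (∀ a ∈ A, x * a * x⁻¹ = a⁻¹) := by
    intro x hx
    rcases hJ x hx with h | ⟨-, h⟩
    · left
      intro a ha
      rw [hA x h a ha]; group
    · exact Or.inr h
  have hprod : ∀ x ∈ J, ∀ y ∈ J, ∀ a ∈ A, (x * y) * a * (x * y)⁻¹ = (y * x) * a * (y * x)⁻¹ := by
    intro x hx y hy a ha
    have e1 : (x * y) * a * (x * y)⁻¹ = x * (y * a * y⁻¹) * x⁻¹ := by group
    have e2 : (y * x) * a * (y * x)⁻¹ = y * (x * a * x⁻¹) * y⁻¹ := by group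
    have hai : a⁻¹ ∈ A := inv_mem ha
    rw [e1, e2]
    rcases hs x hx with h1 | h1 <;> rcases hs y hy with h2 | h2
    · rw [h2 a ha, h1 a ha, h2 a ha]
    · rw [h2 a ha, h1 a ha, h1 _ hai, h2 a ha]
    · rw [h2 a ha, h1 a ha, h2 _ hai]
    · rw [h2 a ha, h1 a ha, h1 _ hai, h2 _ hai]
  have hC : J ≤ Subgroup.centralizer (A : Set G) := by
    refine hp.trans ?_
    rw [Subgroup.commutator_le]
    intro x hx y hy
    rw [Subgroup.mem_centralizer_iff]
    intro a ha
    have hyx : y * x ∈ J := mul_mem hy hx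
    -- b with (yx) b (yx)⁻¹ = a
    obtain ⟨b, hb, hb2⟩ : ∃ b ∈ A, (y * x) * b * (y * x)⁻¹ = a := by
      rcases hs _ hyx with h | h
      · exact ⟨a, ha, h a ha⟩
      · exact ⟨a⁻¹, inv_mem ha, by rw [h _ (inv_mem ha), inv_inv]⟩
    have h3 := hprod x hx y hy b hb
    rw [hb2] at h3
    have h4 : b = (y * x)⁻¹ * a * (y * x) := by rw [← hb2]; group
    rw [h4] at h3
    have h5 : ⁅x, y⁆ * a * ⁅x, y⁆⁻¹ = a := by
      rw [commutatorElement_def]
      calc x * y * x⁻¹ * y⁻¹ * a * (x * y * x⁻¹ * y⁻¹)⁻¹ =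
          x * y * ((y * x)⁻¹ * a * (y * x)) * (x * y)⁻¹ := by group
        _ = a := h3
    calc a * ⁅x, y⁆ = ⁅x, y⁆ * a * ⁅x, y⁆⁻¹ * ⁅x, y⁆ := by rw [h5]
      _ = ⁅x, y⁆ * a := by group
  have hJA : ∀ x ∈ J, ∀ a ∈ A, x * a = a * x := fun x hx a ha =>
    ((Subgroup.mem_centralizer_iff.1 (hC hx)) a ha).symm
  have hcomm : ∀ x ∈ J, ∀ y ∈ J, x * y = y * x := by
    intro x hx y hy
    rcases hJ x hx with h1 | ⟨h1, -⟩
    · exact (hJA y hy x h1).symm
    · rcases hJ y hy with h2 | ⟨h2, -⟩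
      · exact hJA x hx y h2
      · rcases hJ _ (mul_mem hx hy) with h3 | ⟨h3, -⟩
        · have h4 := hJA x hx _ h3
          calc x * y = x * (x * y) * x⁻¹ * (x * x⁻¹) * (x⁻¹)⁻¹ * x⁻¹ := by
                rw [h4]; group
            _ = x * x * y * x⁻¹ := by group
            _ = y * x := by
                rw [h1, one_mul, inv_eq_of_mul_eq_one_left h1]
        · exact comm_of_sq h1 h2 h3
  rw [eq_bot_iff]
  refine hp.trans ?_
  rw [Subgroup.commutator_le]
  intro x hx y hy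
  rw [Subgroup.mem_bot, commutatorElement_eq_one_iff_mul_comm]
  exact hcomm x hx y hy

variable {F : Type*} [Field F] [Finite F] {L : Type*} [Group L] (R : Cfsg.Agent.GH.L2Aut.Rep F L)

local notation "SL2" => Matrix.SpecialLinearGroup (Fin 2) F
local notation "M2" => Matrix (Fin 2) (Fin 2) F

theorem perfect_le_PGL {J : Subgroup (MulAut L)} (hp : J ≤ ⁅J, J⁆) : J ≤ R.PGL := by
  refine hp.trans ?_
  rw [Subgroup.commutator_le]
  intro x hx y hy
  rw [R.mem_PGL_iff_fld, map_commutatorElement, commutatorElement_eq_one_iff_mul_comm]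
  have : IsCyclic (F ≃+* F) := Cfsg.Agent.LieRecognition.FieldSemilinear.isCyclic_ringAut F
  let _ : CommGroup (F ≃+* F) := IsCyclic.commGroup
  exact mul_comm _ _

theorem solv {α : MulAut L} (h1 : α ∈ R.PGL) (h2 : α * α = 1) (hne : α ≠ 1) {J : Subgroup (MulAut L)}
    (hp : J ≤ ⁅J, J⁆) (hc : ∀ β ∈ J, β * α = α * β) : J = ⊥ := by
  obtain ⟨A, hA, hφA, hcomm, huniq, hcov⟩ := R.inv_cent h1 hne h2
  exact eq_bot_of_dih hcomm (fun x hx => hcov x (perfect_le_PGL R hp hx) (hc x hx)) hp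

include R in
theorem isSimple (hq : 4 ≤ Nat.card F) : IsSimpleGroup L := by
  let _ := Fintype.ofFinite F
  have h1 := Cfsg.Agent.TwoFusion.SLTwoFacts.isSimpleGroup_psl (F := F)
    (by rw [← Nat.card_eq_fintype_card]; omega)
  exact (toEquiv R).isSimpleGroup

include R in
theorem nab : ¬ ∀ x y : L, x * y = y * x := by
  intro h
  obtain ⟨a, b, hab⟩ := R.exists_four
  have h1 : a ∈ Subgroup.center L := by
    rw [Subgroup.mem_center_iff]
    intro g
    exact h g a
  rw [R.center_eq_bot, Subgroup.mem_bot] at h1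
  exact hab.a1 h1

/-- a nonabelian simple group is perfect -/
theorem top_le_commutator {H : Type*} [Group H] [IsSimpleGroup H] (h : ¬ ∀ x y : H, x * y = y * x) :
    (⊤ : Subgroup H) ≤ ⁅(⊤ : Subgroup H), (⊤ : Subgroup H)⁆ := by
  have hn : (⁅(⊤ : Subgroup H), (⊤ : Subgroup H)⁆).Normal := inferInstance
  rcases hn.eq_bot_or_eq_top with h1 | h1
  · exfalso
    apply h
    intro x y
    have h2 : ⁅x, y⁆ ∈ ⁅(⊤ : Subgroup H), (⊤ : Subgroup H)⁆ :=
      Subgroup.commutator_mem_commutator (Subgroup.mem_top _) (Subgroup.mem_top _)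
    rw [h1, Subgroup.mem_bot] at h2
    exact commutatorElement_eq_one_iff_mul_comm.1 h2
  · rw [h1]

theorem field (hq : 11 ≤ Nat.card F) {α : MulAut L} (h1 : α * α = 1) (h2 : α ∉ R.PGL) :
    ∃ J : Subgroup L, J ≤ ⁅J, J⁆ ∧ (∀ x ∈ J, α x = x) ∧ ∃ e ∈ J, e * e = 1 ∧ e ≠ 1 := by
  obtain ⟨R', -, -, h3, h4⟩ := R.ftype_rep h2 h1
  obtain ⟨K, hK, hcard⟩ := exists_fixed_field (R.fld α)
  rw [h4] at hcard
  have hK4 : 4 ≤ Nat.card K := by
    by_contra hcon
    have h5 : Nat.card K ≤ 3 := by omega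
    have h6 : Nat.card K ^ 2 ≤ 3 ^ 2 := Nat.pow_le_pow_left h5 2
    omega
  have hfix : ∀ x ∈ R'.sub K, α x = x := by
    intro x hx
    rw [h3]
    exact R'.sub_le_fix hK hx
  have hS : IsSimpleGroup (R'.sub K) := isSimple (R'.subRep K) hK4
  have hnab := nab (R'.subRep K)
  obtain ⟨a, b, hab⟩ := (R'.subRep K).exists_four
  refine ⟨R'.sub K, ?_, hfix, a, a.2, ?_, ?_⟩
  · intro x hx
    have h5 := top_le_commutator hnab (Subgroup.mem_top (⟨x, hx⟩ : R'.sub K))
    have h6 := Subgroup.mem_map_of_mem (R'.sub K).subtype h5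
    rw [Subgroup.map_commutator, ← MonoidHom.range_eq_map, Subgroup.range_subtype] at h6
    exact h6
  · exact congrArg Subtype.val hab.aa
  · intro h
    exact hab.a1 (Subtype.ext h)

theorem rank {α β γ : MulAut L} (hα : α ∈ R.PGL) (hβ : β ∈ R.PGL) (hγ : γ ∈ R.PGL) (h1 : α * α = 1)
    (h2 : β * β = 1) (h3 : γ * γ = 1) (h12 : α * β = β * α) (h13 : α * γ = γ * α)
    (h23 : β * γ = γ * β) :
    α = 1 ∨ β = 1 ∨ γ = 1 ∨ α * β = 1 ∨ α * γ = 1 ∨ β * γ = 1 ∨ α * β * γ = 1 := by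
  by_cases hα1 : α = 1
  · exact Or.inl hα1
  right
  have key : ∀ {x y : MulAut L}, x * x = 1 → x = y → x * y = 1 := by
    intro x y hx hxy
    rw [← hxy, hx]
  obtain ⟨g, rfl⟩ := R.mem_PGL.1 hα
  obtain ⟨h, rfl⟩ := R.mem_PGL.1 hβ
  obtain ⟨k, rfl⟩ := R.mem_PGL.1 hγ
  have htr := R.tr_of_inv hα1 h1
  have hs := R.not_scalar_of_ne hα1
  rcases R.comm_cases h12.symm with e1 | e1
  · rcases R.torus_inv hs htr e1.symm h2 with h | h
    · exact Or.inl h
    · right; right; left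
      exact key h1 h.symm
  · rcases R.comm_cases h13.symm with e2 | e2
    · rcases R.torus_inv hs htr e2.symm h3 with h | h
      · exact Or.inr (Or.inl h)
      · right; right; right; left
        exact key h1 h.symm
    · have e3 : g.1 * (h * k).1 = (h * k).1 * g.1 := by
        have e4 : (h * k).1 = h.1 * k.1 := rfl
        rw [e4]
        calc g.1 * (h.1 * k.1) = (g.1 * h.1) * k.1 := by rw [mul_assoc]
          _ = -(h.1 * g.1) * k.1 := by rw [e1, neg_neg]
          _ = -(h.1 * (g.1 * k.1)) := by rw [neg_mul, mul_assoc]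
          _ = -(h.1 * -(k.1 * g.1)) := by rw [e2, neg_neg]
          _ = h.1 * k.1 * g.1 := by rw [mul_neg, neg_neg, mul_assoc]
      have e5 : R.gl (h * k) * R.gl (h * k) = 1 := by
        rw [map_mul]
        calc R.gl h * R.gl k * (R.gl h * R.gl k) = R.gl h * (R.gl k * R.gl h) * R.gl k := by group
          _ = R.gl h * (R.gl h * R.gl k) * R.gl k := by rw [h23]
          _ = (R.gl h * R.gl h) * (R.gl k * R.gl k) := by group
          _ = 1 := by rw [h2, h3, one_mul]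
      rcases R.torus_inv hs htr e3 e5 with h | h
      · rw [map_mul] at h
        right; right; right; right; left
        exact h
      · rw [map_mul] at h
        right; right; right; right; right
        rw [mul_assoc, h, h1]

include R in
theorem four {e : L} (h1 : e * e = 1) (h2 : e ≠ 1) : ∃ f : L, f * f = 1 ∧ f ≠ 1 ∧ f ≠ e ∧ e * f = f * e := by
  obtain ⟨a, b, hab⟩ := R.exists_four
  obtain ⟨g, hg⟩ := R.inv_conj hab.aa hab.a1 h1 h2
  have h3 := hab.map (MulAut.conj g)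
  rw [MulAut.conj_apply, hg] at h3
  exact ⟨_, h3.bb, h3.b1, h3.ne.symm, h3.comm⟩

/-- an automorphism of order 2 of a group of even order fixes an involution (proof of helper115) -/
theorem fixed {H : Type*} [Group H] [Finite H] (h2 : 2 ∣ Nat.card H) {φ : MulAut H} (hφ : φ * φ = 1) :
    ∃ z : H, z * z = 1 ∧ z ≠ 1 ∧ φ z = z := by
  classical
  have : Fintype H := Fintype.ofFinite H
  have : Fact (Nat.Prime 2) := ⟨Nat.prime_two⟩
  let α : Type _ := {x : H // x * x = 1}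
  have h1 : Nat.card H ≡ Nat.card α [MOD 2] := by
    let f : Function.End H := fun x => x⁻¹
    have hf : f ^ 2 ^ 1 = 1 := by
      funext x
      show (x⁻¹)⁻¹ = x
      rw [inv_inv]
    have h3 := Equiv.Perm.card_fixedPoints_modEq (f := f) (p := 2) (n := 1) hf
    rw [Nat.card_eq_fintype_card, Nat.card_eq_fintype_card]
    refine h3.trans ?_
    have h4 : Fintype.card f.fixedPoints = Fintype.card α := by
      refine Fintype.card_congr (Equiv.subtypeEquivRight fun x => ?_)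
      show x⁻¹ = x ↔ x * x = 1
      rw [inv_eq_iff_mul_eq_one]
    rw [h4]
  have hφφ : ∀ x, φ (φ x) = x := fun x => by rw [← MulAut.mul_apply, hφ, MulAut.one_apply]
  let g : Function.End α := fun x => ⟨φ x.1, by rw [← map_mul, x.2, map_one]⟩
  have hg : g ^ 2 ^ 1 = 1 := by
    funext x
    exact Subtype.ext (hφφ x.1)
  have h3 := Equiv.Perm.card_fixedPoints_modEq (f := g) (p := 2) (n := 1) hg
  rw [← Nat.card_eq_fintype_card, ← Nat.card_eq_fintype_card] at h3
  have h4 : 2 ∣ Nat.card g.fixedPoints :=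
    ((h1.trans h3).dvd_iff (dvd_refl 2)).1 h2
  have h5 : (⟨1, mul_one 1⟩ : α) ∈ g.fixedPoints := Subtype.ext (map_one φ)
  have h6 : 1 < Nat.card g.fixedPoints := by
    have : Nonempty g.fixedPoints := ⟨⟨_, h5⟩⟩
    have : 0 < Nat.card g.fixedPoints := Nat.card_pos
    omega
  obtain ⟨a, b, hab⟩ := (Finite.one_lt_card_iff_nontrivial.1 h6).exists_pair_ne
  have key : ∀ a : g.fixedPoints, a.1.1 ≠ 1 → ∃ z : H, z * z = 1 ∧ z ≠ 1 ∧ φ z = z := fun a ha =>
    ⟨a.1.1, a.1.2, ha, congrArg Subtype.val a.2⟩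
  by_cases ha : a.1.1 = 1
  · by_cases hb : b.1.1 = 1
    · exact absurd (Subtype.ext (Subtype.ext (ha.trans hb.symm))) hab
    · exact key b hb
  · exact key a ha

include R in
theorem two_dvd : 2 ∣ Nat.card L := by
  have := R.finite
  obtain ⟨a, b, hab⟩ := R.exists_four
  have h1 : orderOf a = 2 := orderOf_eq_prime (by rw [sq, hab.aa]) hab.a1
  rw [← h1]
  exact orderOf_dvd_natCard a

end Cfsg.Agent.UGT.TT.PGLSolv
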