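import Cfsg.Agent.UGT.TT.Defs

/-!
# THEOREM T, PIECE 5: elementary lemmas on sides
-/

set_option autoImplicit false

namespace Cfsg.Agent.UGT.TT

open Subgroup
open scoped commutatorElement

universe u v w

/-! ### general lemmas -/

section general

variable {G : Type u} [Group G]

/-- A coset of a normal subgroup of odd order which is invariant under a 2-group contains a fixed element. -/
theorem exists_fix_coset [Finite G] {W T : Subgroup G} (hodd : Odd (Nat.card W)) (hT : IsPGroup 2 T)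
    (hTW : ∀ t ∈ T, ∀ w ∈ W, t * w * t⁻¹ ∈ W) {x : G} (hx : ∀ t ∈ T, x⁻¹ * (t * x * t⁻¹) ∈ W) :
    ∃ w ∈ W, ∀ t ∈ T, t * (x * w) = x * w * t := by
  classical
  have : Fact (Nat.Prime 2) := ⟨Nat.prime_two⟩
  let Ω : Type u := {y : G // x⁻¹ * y ∈ W}
  let act : MulAction T Ω :=
    { smul := fun t y => ⟨(t : G) * y.1 * (t : G)⁻¹, by
        have h1 := hx t t.2
        have h2 := hTW t t.2 _ y.2
        have h3 : x⁻¹ * ((t : G) * y.1 * (t : G)⁻¹) =
            (x⁻¹ * ((t : G) * x * (t : G)⁻¹)) * ((t : G) * (x⁻¹ * y.1) * (t : G)⁻¹) := by group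
        rw [h3]
        exact W.mul_mem h1 h2⟩
      one_smul := fun y => by
        apply Subtype.ext
        show ((1 : T) : G) * y.1 * ((1 : T) : G)⁻¹ = y.1
        simp
      mul_smul := fun s t y => by
        apply Subtype.ext
        show ((s * t : T) : G) * y.1 * ((s * t : T) : G)⁻¹ = (s : G) * ((t : G) * y.1 * (t : G)⁻¹) * (s : G)⁻¹
        push_cast
        group }
  have hcard : ¬ 2 ∣ Nat.card Ω := by
    have h1 : Nat.card Ω = Nat.card W := by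
      refine Nat.card_congr ⟨fun y => ⟨x⁻¹ * y.1, y.2⟩, fun w => ⟨x * w.1, by simp⟩, ?_, ?_⟩
      · intro y; simp
      · intro w; simp
    rw [h1]
    intro h
    exact (Nat.not_even_iff_odd.mpr hodd) (even_iff_two_dvd.mpr h)
  obtain ⟨y, hy⟩ := hT.nonempty_fixed_point_of_prime_not_dvd_card Ω hcard
  refine ⟨x⁻¹ * y.1, y.2, fun q hq => ?_⟩
  have h1 : (⟨q, hq⟩ : T) • y = y := hy ⟨q, hq⟩
  have h2 : q * y.1 * q⁻¹ = y.1 := congrArg Subtype.val h1
  have h3 : x * (x⁻¹ * y.1) = y.1 := by group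
  rw [h3]
  calc q * y.1 = (q * y.1 * q⁻¹) * q := by group
    _ = y.1 * q := by rw [h2]

/-- An elementary abelian group generated by commuting involutions. -/
theorem isPGroup_closure {s : Set G} (h2 : ∀ x ∈ s, x * x = 1) (hc : ∀ x ∈ s, ∀ y ∈ s, x * y = y * x) :
    IsPGroup 2 (closure s) := by
  have hcomm : ∀ x ∈ closure s, ∀ y ∈ closure s, x * y = y * x := by
    intro x hx y hy
    have h1 : closure s ≤ centralizer (closure s : Set G) := by
      refine (closure_le _).mpr fun a ha => ?_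
      rw [SetLike.mem_coe, mem_centralizer_iff]
      intro b hb
      induction hb using closure_induction with
      | mem b hb => exact hc b hb a ha
      | one => rw [one_mul, mul_one]
      | mul b c _ _ h1 h2 => rw [mul_assoc, h2, ← mul_assoc, h1, mul_assoc]
      | inv b _ h1 => rw [inv_mul_eq_iff_eq_mul, ← mul_assoc, h1, mul_inv_cancel_right]
    exact (mem_centralizer_iff.mp (h1 hy) x hx)
  have hsq : ∀ x ∈ closure s, x * x = 1 := by
    intro x hx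
    induction hx using closure_induction with
    | mem b hb => exact h2 b hb
    | one => rw [one_mul]
    | mul b c hb hc' h1 h2 =>
      calc b * c * (b * c) = b * (c * b) * c := by group
        _ = b * (b * c) * c := by rw [hcomm c hc' b hb]
        _ = (b * b) * (c * c) := by group
        _ = 1 := by rw [h1, h2, one_mul]
    | inv b _ h1 => rw [← mul_inv_rev, h1, inv_one]
  intro x
  refine ⟨1, ?_⟩
  rw [pow_one]
  apply Subtype.ext
  rw [pow_two]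
  exact hsq x x.2

/-- An element of even order has an involution in its cyclic group. -/
theorem exists_inv_of_even [Finite G] {J : Subgroup G} {a : G} (ha : a ∈ J) (h : ¬ Odd (orderOf a)) :
    ∃ y ∈ J, y * y = 1 ∧ y ≠ 1 := by
  rw [Nat.not_odd_iff_even] at h
  obtain ⟨m, hm⟩ := h
  have hpos := orderOf_pos a
  refine ⟨a ^ m, J.pow_mem ha m, ?_, ?_⟩
  · rw [← pow_add, ← hm, pow_orderOf_eq_one]
  · intro h1
    have h2 := orderOf_dvd_of_pow_eq_one h1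
    have h3 := Nat.le_of_dvd (by omega) h2
    omega

/-- A multiplicative relation between groups. -/
structure Rel {M : Type v} [Group M] (R : G → M → Prop) : Prop where
  one : R 1 1
  mul : ∀ {a b α β}, R a α → R b β → R (a * b) (α * β)
  inv : ∀ {a α}, R a α → R a⁻¹ α⁻¹

namespace Rel

variable {M : Type v} [Group M] {R : G → M → Prop}

/-- the image of a subgroup -/
def im (h : Rel R) (A : Subgroup G) : Subgroup M where
  carrier := {β | ∃ a ∈ A, R a β}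
  one_mem' := ⟨1, A.one_mem, h.one⟩
  mul_mem' := by
    rintro β γ ⟨a, ha, hb⟩ ⟨c, hc, hd⟩
    exact ⟨a * c, A.mul_mem ha hc, h.mul hb hd⟩
  inv_mem' := by
    rintro β ⟨a, ha, hb⟩
    exact ⟨a⁻¹, A.inv_mem ha, h.inv hb⟩

theorem mem_im (h : Rel R) {A : Subgroup G} {β : M} : β ∈ h.im A ↔ ∃ a ∈ A, R a β := Iff.rfl

/-- the preimage of a subgroup -/
def pre (h : Rel R) (B : Subgroup M) : Subgroup G where
  carrier := {a | ∃ β ∈ B, R a β}
  one_mem' := ⟨1, B.one_mem, h.one⟩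
  mul_mem' := by
    rintro a c ⟨β, hβ, hb⟩ ⟨γ, hγ, hd⟩
    exact ⟨β * γ, B.mul_mem hβ hγ, h.mul hb hd⟩
  inv_mem' := by
    rintro a ⟨β, hβ, hb⟩
    exact ⟨β⁻¹, B.inv_mem hβ, h.inv hb⟩

theorem mem_pre (h : Rel R) {B : Subgroup M} {a : G} : a ∈ h.pre B ↔ ∃ β ∈ B, R a β := Iff.rfl

theorem rel_comm (h : Rel R) {a b : G} {α β : M} (h1 : R a α) (h2 : R b β) : R ⁅a, b⁆ ⁅α, β⁆ := by
  rw [commutatorElement_def, commutatorElement_def]
  exact h.mul (h.mul (h.mul h1 h2) (h.inv h1)) (h.inv h2)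

theorem le_im_commutator (h : Rel R) {A : Subgroup G} {B : Subgroup M} (hB : B ≤ h.im A) : ⁅B, B⁆ ≤ h.im ⁅A, A⁆ := by
  rw [commutator_le]
  intro β hβ γ hγ
  obtain ⟨a, ha, hb⟩ := hB hβ
  obtain ⟨c, hc, hd⟩ := hB hγ
  exact ⟨⁅a, c⁆, commutator_mem_commutator ha hc, h.rel_comm hb hd⟩

/-- A perfect subgroup is covered by a perfect subgroup. -/
theorem exists_perfect [Finite G] (h : Rel R) {A : Subgroup G} {B : Subgroup M} (hB : B ≤ h.im A)
    (hp : B ≤ ⁅B, B⁆) : ∃ J ≤ A, J ≤ ⁅J, J⁆ ∧ B ≤ h.im J := by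
  classical
  obtain ⟨J, hJ⟩ := Set.Finite.exists_minimal (s := {J : Subgroup G | J ≤ A ∧ B ≤ h.im J}) (Set.toFinite _)
    ⟨A, le_rfl, hB⟩
  have h1 : ⁅J, J⁆ ≤ J := commutator_le_self J
  refine ⟨J, hJ.prop.1, hJ.2 ⟨h1.trans hJ.prop.1, hp.trans (h.le_im_commutator hJ.prop.2)⟩ h1, hJ.prop.2⟩

/-- The image of a perfect subgroup is perfect, if the relation is a function. -/
theorem im_perfect (h : Rel R) (hu : ∀ {a α β}, R a α → R a β → α = β) {J : Subgroup G} (hJ : J ≤ ⁅J, J⁆)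
    (hR : ∀ a ∈ J, ∃ α, R a α) : h.im J ≤ ⁅h.im J, h.im J⁆ := by
  have h1 : ⁅J, J⁆ ≤ h.pre ⁅h.im J, h.im J⁆ := by
    rw [commutator_le]
    intro a ha b hb
    obtain ⟨α, hα⟩ := hR a ha
    obtain ⟨β, hβ⟩ := hR b hb
    exact ⟨⁅α, β⁆, commutator_mem_commutator ⟨a, ha, hα⟩ ⟨b, hb, hβ⟩, h.rel_comm hα hβ⟩
  rintro β ⟨a, ha, hβ⟩
  obtain ⟨γ, hγ, hR'⟩ := h1 (hJ ha)
  rw [hu hβ hR']
  exact hγ

end Rel

end general

/-! ### sides -/

namespace Side

variable {G : Type u} [Group G] {Q : Type v} [Group Q] {ι : Type w} {S : Side G Q ι}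

namespace Ok

variable (h : S.Ok)

include h

theorem WH {w : G} (hw : w ∈ S.W) (i : ι) : w ∈ S.H := h.FH i (h.WF i hw)

theorem one (i : ι) : S.π i 1 = 1 := by
  have h1 := h.map_mul i 1 (S.F i).one_mem 1 (S.F i).one_mem
  rw [one_mul] at h1
  exact (left_eq_mul.mp h1)

theorem inv {i : ι} {x : G} (hx : x ∈ S.F i) : S.π i x⁻¹ = (S.π i x)⁻¹ := by
  have h1 := h.map_mul i x⁻¹ ((S.F i).inv_mem hx) x hx
  rw [inv_mul_cancel, h.one] at h1
  exact eq_inv_of_mul_eq_one_left h1.symm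

theorem conj {i : ι} {x y : G} (hx : x ∈ S.F i) (hy : y ∈ S.F i) :
    S.π i (x * y * x⁻¹) = S.π i x * S.π i y * (S.π i x)⁻¹ := by
  rw [h.map_mul i _ ((S.F i).mul_mem hx hy) _ ((S.F i).inv_mem hx), h.map_mul i x hx y hy, h.inv hx]

theorem eq_iff {i : ι} {x y : G} (hx : x ∈ S.F i) (hy : y ∈ S.F i) : S.π i x = S.π i y ↔ x⁻¹ * y ∈ S.W := by
  rw [← h.ker i _ ((S.F i).mul_mem ((S.F i).inv_mem hx) hy), h.map_mul i _ ((S.F i).inv_mem hx) y hy, h.inv hx,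
    inv_mul_eq_one]

theorem pow {i : ι} {x : G} (hx : x ∈ S.F i) (n : ℕ) : S.π i (x ^ n) = S.π i x ^ n := by
  induction n with
  | zero => rw [pow_zero, pow_zero, h.one]
  | succ n ih => rw [pow_succ, pow_succ, h.map_mul i _ ((S.F i).pow_mem hx n) x hx, ih]

theorem nW' {k x : G} (hk : k ∈ S.H) (hx : k * x * k⁻¹ ∈ S.W) : x ∈ S.W := by
  have h1 := h.nW k⁻¹ (S.H.inv_mem hk) _ hx
  have h2 : k⁻¹ * (k * x * k⁻¹) * k⁻¹⁻¹ = x := by group
  rwa [h2] at h1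

theorem one_of_W {x : G} [Finite G] (hx : x ∈ S.W) (hx2 : x * x = 1) : x = 1 := by
  have h1 : orderOf x ∣ Nat.card S.W := Subgroup.orderOf_dvd_natCard _ hx
  have h2 : orderOf x ∣ 2 := orderOf_dvd_of_pow_eq_one (by rw [pow_two]; exact hx2)
  have h3 : orderOf x ∣ Nat.gcd 2 (Nat.card S.W) := Nat.dvd_gcd h2 h1
  have h4 : Nat.gcd 2 (Nat.card S.W) = 1 := (Nat.coprime_two_left).mpr h.odd
  rw [h4, Nat.dvd_one, orderOf_eq_one_iff] at h3
  exact h3

end Ok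

theorem Nrm.mul {i : ι} {a b : G} (ha : S.Nrm i a) (hb : S.Nrm i b) : S.Nrm i (a * b) := by
  refine ⟨S.H.mul_mem ha.1 hb.1, fun x hx => ?_⟩
  have h1 := ha.2 _ (hb.2 x hx)
  have h2 : a * (b * x * b⁻¹) * a⁻¹ = a * b * x * (a * b)⁻¹ := by group
  rwa [h2] at h1

theorem Nrm.one {i : ι} : S.Nrm i 1 := ⟨S.H.one_mem, fun x hx => by simpa using hx⟩

theorem Nrm.pow {i : ι} {a : G} (ha : S.Nrm i a) (n : ℕ) : S.Nrm i (a ^ n) := by
  induction n with
  | zero => rw [pow_zero]; exact Nrm.one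
  | succ n ih => rw [pow_succ]; exact ih.mul ha

theorem Nrm.inv [Finite G] {i : ι} {a : G} (ha : S.Nrm i a) : S.Nrm i a⁻¹ := by
  have h1 : a⁻¹ = a ^ (orderOf a - 1) := by
    apply inv_eq_of_mul_eq_one_left
    rw [← pow_succ, Nat.sub_add_cancel (orderOf_pos a), pow_orderOf_eq_one]
  rw [h1]
  exact ha.pow _

/-- the normaliser of `F i` in `H` -/
def N [Finite G] (S : Side G Q ι) (i : ι) : Subgroup G where
  carrier := {a | S.Nrm i a}
  one_mem' := Nrm.one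
  mul_mem' := fun ha hb => Nrm.mul ha hb
  inv_mem' := fun ha => Nrm.inv ha

theorem Ind.nrm {i : ι} {a : G} {α : MulAut Q} (h : S.Ind i a α) : S.Nrm i a := ⟨h.1, fun x hx => (h.2 x hx).1⟩

theorem Ind.mul {i : ι} {a b : G} {α β : MulAut Q} (ha : S.Ind i a α) (hb : S.Ind i b β) :
    S.Ind i (a * b) (α * β) := by
  refine ⟨S.H.mul_mem ha.1 hb.1, fun x hx => ?_⟩
  have h2 : a * (b * x * b⁻¹) * a⁻¹ = a * b * x * (a * b)⁻¹ := by group
  rw [← h2]
  refine ⟨(ha.2 _ (hb.2 x hx).1).1, ?_⟩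
  rw [(ha.2 _ (hb.2 x hx).1).2, (hb.2 x hx).2]
  rfl

theorem Ind.one {i : ι} : S.Ind i 1 1 := ⟨S.H.one_mem, fun x hx => by simpa using hx⟩

theorem Ok.ind_uniq (h : S.Ok) {i : ι} {a : G} {α β : MulAut Q} (ha : S.Ind i a α) (hb : S.Ind i a β) : α = β := by
  apply MulEquiv.ext
  intro q
  obtain ⟨x, hx, rfl⟩ := h.surj i q
  rw [← (ha.2 x hx).2, ← (hb.2 x hx).2]

theorem Ok.exists_ind [Finite G] [Finite Q] (h : S.Ok) {i : ι} {a : G} (ha : S.Nrm i a) : ∃ α, S.Ind i a α := by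
  classical
  choose r hr hr' using h.surj i
  have key : ∀ x ∈ S.F i, S.π i (a * r (S.π i x) * a⁻¹) = S.π i (a * x * a⁻¹) := by
    intro x hx
    rw [h.eq_iff (ha.2 _ (hr _)) (ha.2 _ hx)]
    have h1 : (r (S.π i x))⁻¹ * x ∈ S.W := by
      rw [← h.eq_iff (hr _) hx, hr']
    have h2 : (a * r (S.π i x) * a⁻¹)⁻¹ * (a * x * a⁻¹) = a * ((r (S.π i x))⁻¹ * x) * a⁻¹ := by group
    rw [h2]
    exact h.nW a ha.1 _ h1
  let f : Q →* Q := MonoidHom.mk' (fun q => S.π i (a * r q * a⁻¹)) (by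
    intro p q
    show S.π i (a * r (p * q) * a⁻¹) = S.π i (a * r p * a⁻¹) * S.π i (a * r q * a⁻¹)
    have h1 : p * q = S.π i (r p * r q) := by rw [h.map_mul i _ (hr p) _ (hr q), hr', hr']
    rw [h1, key _ ((S.F i).mul_mem (hr p) (hr q)), ← h.map_mul i _ (ha.2 _ (hr p)) _ (ha.2 _ (hr q))]
    congr 1
    group)
  have hf : Function.Injective f := by
    rw [injective_iff_map_eq_one]
    intro q hq
    have h1 : S.π i (a * r q * a⁻¹) = 1 := hq
    rw [h.ker i _ (ha.2 _ (hr q))] at h1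
    have h2 := h.nW' ha.1 h1
    rw [← h.ker i _ (hr q), hr'] at h2
    exact h2
  refine ⟨MulEquiv.ofBijective f (Finite.injective_iff_bijective.mp hf), ha.1, fun x hx => ⟨ha.2 x hx, ?_⟩⟩
  exact (key x hx).symm

theorem Ind.inv [Finite G] [Finite Q] {i : ι} {a : G} {α : MulAut Q} (h : S.Ok) (ha : S.Ind i a α) :
    S.Ind i a⁻¹ α⁻¹ := by
  obtain ⟨β, hβ⟩ := h.exists_ind ha.nrm.inv
  have h1 := hβ.mul ha
  rw [inv_mul_cancel] at h1
  have h2 := h.ind_uniq h1 Ind.one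
  rw [← eq_inv_of_mul_eq_one_left h2]
  exact hβ

theorem Ok.rel [Finite G] [Finite Q] (h : S.Ok) (i : ι) : Rel (S.Ind i) where
  one := Ind.one
  mul := fun ha hb => ha.mul hb
  inv := fun ha => ha.inv h

theorem Ok.ind_self (h : S.Ok) {i : ι} {x : G} (hx : x ∈ S.F i) : S.Ind i x (MulAut.conj (S.π i x)) :=
  ⟨h.FH i hx, fun y hy => ⟨(S.F i).mul_mem ((S.F i).mul_mem hx hy) ((S.F i).inv_mem hx), by
    rw [h.conj hx hy, MulAut.conj_apply]⟩⟩

theorem Ok.ind_one_iff (h : S.Ok) {i : ι} {a : G} :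
    S.Ind i a 1 ↔ a ∈ S.H ∧ ∀ x ∈ S.F i, a * x * a⁻¹ * x⁻¹ ∈ S.W := by
  constructor
  · rintro ⟨h1, h2⟩
    refine ⟨h1, fun x hx => ?_⟩
    obtain ⟨h3, h4⟩ := h2 x hx
    rw [← h.ker i _ ((S.F i).mul_mem h3 ((S.F i).inv_mem hx)), h.map_mul i _ h3 _ ((S.F i).inv_mem hx), h4,
      h.inv hx, MulAut.one_apply, mul_inv_cancel]
  · rintro ⟨h1, h2⟩
    refine ⟨h1, fun x hx => ?_⟩
    have h3 : a * x * a⁻¹ = a * x * a⁻¹ * x⁻¹ * x := by group
    have h4 : a * x * a⁻¹ ∈ S.F i := by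
      rw [h3]
      exact (S.F i).mul_mem (h.WF i (h2 x hx)) hx
    refine ⟨h4, ?_⟩
    rw [h3, h.map_mul i _ (h.WF i (h2 x hx)) x hx, (h.ker i _ (h.WF i (h2 x hx))).mpr (h2 x hx), one_mul,
      MulAut.one_apply]

theorem Ok.ind_other (h : S.Ok) {i j : ι} (hij : i ≠ j) {x : G} (hx : x ∈ S.F j) : S.Ind i x 1 := by
  rw [h.ind_one_iff]
  exact ⟨h.FH j hx, fun y hy => h.comm j i hij.symm x hx y hy⟩

theorem Ok.ind_W (h : S.Ok) {i : ι} {x : G} (hx : x ∈ S.W) : S.Ind i x 1 := by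
  have h1 := h.ind_self (h.WF i hx)
  rw [(h.ker i x (h.WF i hx)).mpr hx, map_one] at h1
  exact h1

theorem Ok.t1' (h : S.Ok) {i : ι} {y : G} (hy : S.Ind i y 1) (hy2 : y * y = 1) (hy1 : y ≠ 1) {c : G}
    (hc : c * y = y * c) : c ∈ S.H :=
  h.t1 i y hy.1 (h.ind_one_iff.mp hy).2 hy2 hy1 c hc

theorem Ok.ind_sq (h : S.Ok) {i : ι} {a : G} {α : MulAut Q} (ha : S.Ind i a α) (h2 : a * a = 1) : α * α = 1 := by
  have h1 := ha.mul ha
  rw [h2] at h1
  exact h.ind_uniq h1 Ind.one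

theorem Ok.ind_comm (h : S.Ok) {i : ι} {a b : G} {α β : MulAut Q} (ha : S.Ind i a α) (hb : S.Ind i b β)
    (hab : a * b = b * a) : α * β = β * α := by
  have h1 := ha.mul hb
  rw [hab] at h1
  exact h.ind_uniq h1 (hb.mul ha)

/-- the image in `Q` of the intersection of `F i` with a subgroup `X` -/
def Ok.img (h : S.Ok) (i : ι) (X : Subgroup G) : Subgroup Q where
  carrier := {q | ∃ x ∈ S.F i, x ∈ X ∧ S.π i x = q}
  one_mem' := ⟨1, (S.F i).one_mem, X.one_mem, h.one i⟩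
  mul_mem' := by
    rintro p q ⟨x, hx, hxX, rfl⟩ ⟨y, hy, hyX, rfl⟩
    exact ⟨x * y, (S.F i).mul_mem hx hy, X.mul_mem hxX hyX, h.map_mul i x hx y hy⟩
  inv_mem' := by
    rintro q ⟨x, hx, hxX, rfl⟩
    exact ⟨x⁻¹, (S.F i).inv_mem hx, X.inv_mem hxX, h.inv hx⟩

theorem Ok.mem_img (h : S.Ok) {i : ι} {X : Subgroup G} {q : Q} : q ∈ h.img i X ↔ ∃ x ∈ S.F i, x ∈ X ∧ S.π i x = q :=
  Iff.rfl

/-- fixed points modulo `W` are covered by centralizers -/
theorem Ok.exists_fix [Finite G] (h : S.Ok) {i : ι} {T : Subgroup G} (hT : IsPGroup 2 T) {q : Q}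
    (hTq : ∀ t ∈ T, ∃ α, S.Ind i t α ∧ α q = q) {x : G} (hx : x ∈ S.F i) (hxq : S.π i x = q) :
    ∃ w ∈ S.W, ∀ t ∈ T, t * (x * w) = x * w * t := by
  refine exists_fix_coset h.odd hT (fun t ht w hw => ?_) (fun t ht => ?_)
  · obtain ⟨α, hα, -⟩ := hTq t ht
    exact h.nW t hα.1 w hw
  · obtain ⟨α, hα, hq⟩ := hTq t ht
    rw [← h.eq_iff hx (hα.2 x hx).1, (hα.2 x hx).2, hxq, hq]

/-- an involution of `Q` fixed by a 2-group is covered by an involution centralised by the 2-group -/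
theorem Ok.exists_inv [Finite G] (h : S.Ok) {i : ι} {T : Subgroup G} (hT : IsPGroup 2 T) {q : Q}
    (hTq : ∀ t ∈ T, ∃ α, S.Ind i t α ∧ α q = q) (hq : q * q = 1) :
    ∃ x ∈ S.F i, S.π i x = q ∧ x * x = 1 ∧ ∀ t ∈ T, t * x = x * t := by
  obtain ⟨x0, hx0, hx0q⟩ := h.surj i q
  have h1 : x0 * x0 ∈ S.W := by
    rw [← h.ker i _ ((S.F i).mul_mem hx0 hx0), h.map_mul i _ hx0 _ hx0, hx0q, hq]
  -- an involution over `q`
  obtain ⟨m, hm⟩ := h.odd
  obtain ⟨x1, hx1⟩ : ∃ x1, x1 = x0 ^ Nat.card S.W := ⟨_, rfl⟩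
  have hx1F : x1 ∈ S.F i := by rw [hx1]; exact (S.F i).pow_mem hx0 _
  have hx1q : S.π i x1 = q := by
    rw [hx1, h.pow hx0, hx0q, hm, pow_succ, pow_mul, pow_two, hq, one_pow, one_mul]
  have hx12 : x1 * x1 = 1 := by
    rw [hx1, ← pow_add, ← two_mul, pow_mul, pow_two]
    exact pow_card_eq_one' (G := S.W) (x := ⟨x0 * x0, h1⟩) |> congrArg Subtype.val
  obtain ⟨y, hy, hy2, hyT⟩ := Cfsg.Agent.UGT.SL.exists_fixed_involution h.odd hT hx12
    (fun w hw => h.nW x1 (h.FH i hx1F) w hw) (fun t ht w hw => by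
      obtain ⟨α, hα, -⟩ := hTq t ht
      exact h.nW t hα.1 w hw) (fun t ht => by
      obtain ⟨α, hα, hαq⟩ := hTq t ht
      rw [← h.ker i _ ((S.F i).mul_mem hx1F (hα.2 _ hx1F).1), h.map_mul i _ hx1F _ (hα.2 _ hx1F).1,
        (hα.2 _ hx1F).2, hx1q, hαq, hq])
  have hyF : y ∈ S.F i := by
    have h2 := (S.F i).mul_mem ((S.F i).inv_mem hx1F) (h.WF i hy)
    rwa [inv_mul_cancel_left] at h2
  refine ⟨y, hyF, ?_, hy2, hyT⟩
  have h3 : S.π i (x1 * y) = 1 := (h.ker i _ (h.WF i hy)).mpr hy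
  rw [h.map_mul i _ hx1F _ hyF, hx1q] at h3
  calc S.π i y = q * q * S.π i y := by rw [hq, one_mul]
    _ = q := by rw [mul_assoc, h3, mul_one]

end Side

end Cfsg.Agent.UGT.TT
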