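import Mathlib
import Cfsg.Agent.OddHalf.D3.Fus
import Cfsg.Agent.PermParts.OfProd
import Cfsg.Agent.Lib.SylowNormalInf
import Cfsg.Agent.UGT.TT.Basic

/-!
# Permuted parts modulo an odd core: strong closure

`Ctrl H W F`: `F i ≤ H` (`i : ι`) are permuted by `H`, commute pairwise modulo the subgroup `W` of odd order, every `F i`
contains two commuting involutions, and every involution `u` in the product of all `F j`, `j ≠ l`, is only fused into
`H` by elements of `H`.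

* `Ctrl.exists_sylow`: `H` contains a Sylow 2-subgroup `S` of `G`;
* `Ctrl.isStronglyClosed`: `S ∩ ⟨F i⟩` is strongly closed in `S`;
* `Ctrl.data`: the parts `S ∩ F i` satisfy the hypotheses of the permuted product theorem.
-/

set_option autoImplicit false
set_option linter.style.haveILetI false

namespace Cfsg.Agent.UGT.TT

open Subgroup Cfsg
open Cfsg.Agent.Lib.GoldschmidtFusion Cfsg.Agent.ClassTwoFusion.Ess
open Cfsg.Agent.OddHalf.D3.Fus (exists_fix orderOf_eq_two_of_sq sq_of_orderOf ne_one_of_orderOf)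

universe u v w

/-! ### 2-groups -/

section two

variable {G : Type u} [Group G]

theorem orderOf_conj' (g x : G) : orderOf (g * x * g⁻¹) = orderOf x := by
  have h1 := orderOf_injective (MulAut.conj g).toMonoidHom (MulAut.conj g).injective x
  simpa using h1

/-- a power of a nontrivial 2-element is an involution -/
theorem exists_pow_orderOf {T : Subgroup G} (hT : IsPGroup 2 T) {c : G} (hc : c ∈ T) (hc1 : c ≠ 1) :
    ∃ n : ℕ, orderOf (c ^ n) = 2 := by
  obtain ⟨k, hk⟩ := hT ⟨c, hc⟩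
  have hk' : c ^ 2 ^ k = 1 := congrArg Subtype.val hk
  clear hk
  induction k with
  | zero => exact absurd (by simpa using hk') hc1
  | succ k ih =>
    by_cases h : c ^ 2 ^ k = 1
    · exact ih h
    · refine ⟨2 ^ k, orderOf_eq_two_of_sq ?_ h⟩
      rw [← pow_add, ← two_mul, ← pow_succ']
      exact hk'

/-- every involution of a 2-group with two involutions commutes with another involution -/
theorem exists_partner [Finite G] {P : Subgroup G} (hP : IsPGroup 2 P) {a b : G} (ha : a ∈ P) (hb : b ∈ P)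
    (oa : orderOf a = 2) (ob : orderOf b = 2) (hne : a ≠ b) {x : G} (hx : x ∈ P)
    (ox : orderOf x = 2) : ∃ y ∈ P, orderOf y = 2 ∧ y ≠ x ∧ x * y = y * x := by
  have hPne : P ≠ ⊥ := by
    intro h
    rw [h, mem_bot] at hx
    exact ne_one_of_orderOf ox hx
  obtain ⟨z, hz, oz, hzc⟩ := exists_fix hP le_rfl le_rfl hPne (fun x hx d hd =>
    mul_mem (mul_mem hx hd) (inv_mem hx))
  by_cases hxz : z = x
  · subst hxz
    by_cases haz : a = z
    · refine ⟨b, hb, ob, ?_, (hzc b hb).symm⟩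
      rintro rfl
      exact hne haz
    · exact ⟨a, ha, oa, haz, (hzc a ha).symm⟩
  · exact ⟨z, hz, oz, hxz, hzc x hx⟩

end two

/-! ### The configuration -/

/-- permuted parts modulo an odd core -/
structure Ctrl {G : Type u} [Group G] {ι : Type w} (H W : Subgroup G) (F : ι → Subgroup G) : Prop where
  FH : ∀ i, F i ≤ H
  odd : Odd (Nat.card W)
  nrm : ∀ i j, i ≠ j → ∀ x ∈ F i, ∀ y ∈ F j, x * y * x⁻¹ ∈ F j
  comm : ∀ i j, i ≠ j → ∀ x ∈ F i, ∀ y ∈ F j, x * y * x⁻¹ * y⁻¹ ∈ W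
  perm : ∀ h ∈ H, ∀ i, ∃ j, F j = (F i).map (MulAut.conj h).toMonoidHom
  indep : ∀ i, ∀ x ∈ F i, x ∈ (⨆ j : {j // j ≠ i}, F j.1 : Subgroup G) → x ∈ W
  rich : ∀ i, ∃ a ∈ F i, ∃ b ∈ F i, a * a = 1 ∧ b * b = 1 ∧ a * b = b * a ∧ a ≠ 1 ∧ b ≠ 1 ∧ a ≠ b
  sc : ∀ i, ∀ u ∈ (⨆ j : {j // j ≠ i}, F j.1 : Subgroup G), u * u = 1 → u ≠ 1 → ∀ g : G, g * u * g⁻¹ ∈ H → g ∈ H

namespace Ctrl

variable {G : Type u} [Group G] {ι : Type w} {H W : Subgroup G} {F : ι → Subgroup G} (h : Ctrl H W F)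
include h

theorem conj_self {i j : ι} {x y : G} (hx : x ∈ F i) (hy : y ∈ F j) : x * y * x⁻¹ ∈ F j := by
  by_cases hij : i = j
  · subst hij
    exact (F i).mul_mem ((F i).mul_mem hx hy) ((F i).inv_mem hx)
  · exact h.nrm i j hij x hx y hy

/-- the join normalises the members -/
theorem le_normalizer' (j : ι) : (⨆ i, F i : Subgroup G) ≤ normalizer ((F j : Subgroup G) : Set G) := by
  refine iSup_le fun i x hx => ?_
  rw [mem_normalizer_iff]
  intro y
  refine ⟨fun hy => h.conj_self hx hy, fun hy => ?_⟩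
  have h1 := h.conj_self ((F i).inv_mem hx) hy
  have e : x⁻¹ * (x * y * x⁻¹) * x⁻¹⁻¹ = y := by group
  rwa [e] at h1

theorem join_le : (⨆ i, F i : Subgroup G) ≤ H := iSup_le h.FH

/-- `H` normalises the join -/
theorem conj_mem_join {g x : G} (hg : g ∈ H) (hx : x ∈ (⨆ i, F i : Subgroup G)) :
    g * x * g⁻¹ ∈ (⨆ i, F i : Subgroup G) := by
  have h1 : (⨆ i, F i : Subgroup G) ≤ (⨆ i, F i : Subgroup G).comap (MulAut.conj g).toMonoidHom := by
    refine iSup_le fun i y hy => ?_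
    obtain ⟨j, hj⟩ := h.perm g hg i
    have h2 : g * y * g⁻¹ ∈ F j := by rw [hj]; exact ⟨y, hy, rfl⟩
    exact mem_iSup_of_mem j h2
  exact h1 hx

theorem sc_mem [Nontrivial ι] {i : ι} {u : G} (hu : u ∈ F i) (hu2 : u * u = 1) (hu1 : u ≠ 1) {g : G}
    (hg : g * u * g⁻¹ ∈ H) : g ∈ H := by
  obtain ⟨l, hl⟩ := exists_ne i
  exact h.sc l u (mem_iSup_of_mem (⟨i, hl.symm⟩ : {j // j ≠ l}) hu) hu2 hu1 g hg

theorem eq_one_of_W [Finite G] {T : Subgroup G} (hT : IsPGroup 2 T) {x : G} (hx : x ∈ T) (hxW : x ∈ W) : x = 1 := by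
  obtain ⟨k, hk⟩ := hT ⟨x, hx⟩
  have hk' : x ^ 2 ^ k = 1 := congrArg Subtype.val hk
  have h1 : orderOf x ∣ 2 ^ k := orderOf_dvd_of_pow_eq_one hk'
  have h2 : orderOf x ∣ Nat.card W := Subgroup.orderOf_dvd_natCard _ hxW
  have h3 : Nat.Coprime (2 ^ k) (Nat.card W) := Nat.Coprime.pow_left _ (Nat.coprime_two_left.mpr h.odd)
  have h4 := Nat.dvd_gcd h1 h2
  rw [h3, Nat.dvd_one, orderOf_eq_one_iff] at h4
  exact h4

section Syl

variable [Finite G]

/-- A Sylow 2-subgroup of `G` in `H`. -/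
theorem exists_sylow [Nontrivial ι] : ∃ S : Sylow 2 G, (S : Subgroup G) ≤ H := by
  haveI : Fact (Nat.Prime 2) := ⟨Nat.prime_two⟩
  obtain ⟨i0⟩ : Nonempty ι := inferInstance
  obtain ⟨u, hu, -, -, hu2, -, -, hu1, -, -⟩ := h.rich i0
  have huz : IsPGroup 2 (zpowers u) := Cfsg.Agent.UGT.SL.two_isPGroup hu2
  obtain ⟨T, hT1, hT2, hT3, hT4⟩ := exists_sylow_in (p := 2) (N := H) (D := zpowers u)
    (by rw [zpowers_le]; exact h.FH i0 hu) huz
  have huT : u ∈ T := hT1 (mem_zpowers u)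
  obtain ⟨Q, hQ⟩ := hT3.exists_le_sylow
  refine ⟨Q, ?_⟩
  by_cases hTQ : T = (Q : Subgroup G)
  · rw [← hTQ]; exact hT2
  · exfalso
    have hlt : T < (Q : Subgroup G) := lt_of_le_of_ne hQ hTQ
    have h1 := lt_inf_normalizer Q.isPGroup' hlt
    have h2 : (Q : Subgroup G) ⊓ normalizer (T : Set G) ≤ H := by
      intro g hg
      refine h.sc_mem hu hu2 hu1 (hT2 ((mem_normalizer_iff.1 hg.2 u).1 huT))
    have h3 : IsPGroup 2 ((Q : Subgroup G) ⊓ normalizer (T : Set G) : Subgroup G) := Q.isPGroup'.to_le inf_le_left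
    obtain ⟨n, hn, hnT⟩ := exists_conj_le_in (p := 2) hT3 hT4 h2 h3
    have h4 := Subgroup.card_le_of_le hnT
    rw [card_map_conj] at h4
    have h5 : Nat.card T < Nat.card ((Q : Subgroup G) ⊓ normalizer (T : Set G) : Subgroup G) :=
      Set.ncard_lt_ncard (by exact_mod_cast h1) (Set.toFinite _)
    omega

/-- 2-subgroups of the members are conjugate into `S`. -/
theorem exists_conj_mem {S : Sylow 2 G} (hS : (S : Subgroup G) ≤ H) {i : ι} {E : Subgroup G} (hE : E ≤ F i)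
    (hE2 : IsPGroup 2 E) : ∃ k ∈ F i, ∀ x ∈ E, k * x * k⁻¹ ∈ (S : Subgroup G) := by
  haveI : Fact (Nat.Prime 2) := ⟨Nat.prime_two⟩
  set J : Subgroup G := ⨆ i, F i with hJ
  have hJH : J ≤ H := h.join_le
  -- the subgroup `S ∩ J` of `J`
  haveI hJn : (J.subgroupOf H).Normal := by
    refine ⟨fun x hx g => ?_⟩
    exact h.conj_mem_join g.2 hx
  have hSH : IsPGroup 2 ((S : Subgroup G).subgroupOf H) :=
    S.isPGroup'.comap_of_injective H.subtype H.subtype_injective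
  have hSi : ¬ 2 ∣ ((S : Subgroup G).subgroupOf H).index := by
    intro h1
    exact S.not_dvd_index (h1.trans (Subgroup.relIndex_dvd_index_of_le hS))
  set SH : Sylow 2 ↥H := hSH.toSylow hSi with hSHd
  have hd1 : ¬ 2 ∣ (SH : Subgroup ↥H).relIndex (J.subgroupOf H) :=
    Cfsg.Agent.Lib.SylowNormalInf.not_dvd_relIndex SH (J.subgroupOf H)
  set SJ : Sylow 2 ↥(J.subgroupOf H) :=
    (Cfsg.Agent.Lib.SylowNormalInf.isPGroup_subgroupOf SH (J.subgroupOf H)).toSylow hd1 with hSJ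
  set L : Subgroup G := F i with hLd
  have hLJ : L ≤ J := le_iSup F i
  haveI hLn : ((L.subgroupOf H).subgroupOf (J.subgroupOf H)).Normal := by
    refine ⟨fun x hx g => ?_⟩
    exact (mem_normalizer_iff.1 (h.le_normalizer' i g.2) _).1 hx
  have hd2 : ¬ 2 ∣ (SJ : Subgroup ↥(J.subgroupOf H)).relIndex ((L.subgroupOf H).subgroupOf (J.subgroupOf H)) :=
    Cfsg.Agent.Lib.SylowNormalInf.not_dvd_relIndex SJ _
  set f : ↥(J.subgroupOf H) →* G := H.subtype.comp (J.subgroupOf H).subtype with hf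
  have hfi : Function.Injective f := fun a b hab => Subtype.ext (Subtype.ext hab)
  have hmapL : ((L.subgroupOf H).subgroupOf (J.subgroupOf H)).map f = L := by
    ext x
    constructor
    · rintro ⟨y, hy, rfl⟩
      exact hy
    · intro hx
      exact ⟨⟨⟨x, hJH (hLJ hx)⟩, hLJ hx⟩, hx, rfl⟩
  have hmapS : (SJ : Subgroup ↥(J.subgroupOf H)).map f ≤ (S : Subgroup G) := by
    rintro _ ⟨y, hy, rfl⟩
    exact hy
  have hd3 : ¬ 2 ∣ ((SJ : Subgroup ↥(J.subgroupOf H)).map f ⊓ L).relIndex L := by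
    intro h1
    apply hd2
    rw [Subgroup.inf_relIndex_right] at h1
    have h2 : ((SJ : Subgroup ↥(J.subgroupOf H)).map f).relIndex
        (((L.subgroupOf H).subgroupOf (J.subgroupOf H)).map f) =
        (SJ : Subgroup ↥(J.subgroupOf H)).relIndex ((L.subgroupOf H).subgroupOf (J.subgroupOf H)) :=
      relIndex_map_map_of_injective _ _ hfi
    rw [hmapL] at h2
    rwa [h2] at h1
  obtain ⟨k, hk, hkE⟩ := exists_conj_le_in (p := 2) (N := L) (R := (SJ : Subgroup ↥(J.subgroupOf H)).map f ⊓ L)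
    (S.isPGroup'.to_le (inf_le_left.trans hmapS)) hd3 hE hE2
  exact ⟨k, hk, fun x hx => hmapS (hkE ⟨x, hx, rfl⟩).1⟩

/-- two commuting involutions of `S ∩ F i` -/
theorem exists_two {S : Sylow 2 G} (hS : (S : Subgroup G) ≤ H) (i : ι) : ∃ a ∈ (S : Subgroup G) ⊓ F i,
    ∃ b ∈ (S : Subgroup G) ⊓ F i, orderOf a = 2 ∧ orderOf b = 2 ∧ a ≠ b := by
  obtain ⟨a, ha, b, hb, ha2, hb2, hab, ha1, hb1, hne⟩ := h.rich i
  have hE : IsPGroup 2 (closure ({a, b} : Set G)) := by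
    apply isPGroup_closure
    · rintro x (rfl | rfl)
      · exact ha2
      · exact hb2
    · rintro x (rfl | rfl) y (rfl | rfl)
      · rfl
      · exact hab
      · exact hab.symm
      · rfl
  obtain ⟨k, hk, hkS⟩ := h.exists_conj_mem hS (i := i) (E := closure ({a, b} : Set G)) (by
    rw [closure_le]
    rintro x (rfl | rfl)
    · exact ha
    · exact hb) hE
  have hF : ∀ c ∈ F i, k * c * k⁻¹ ∈ F i := fun c hc => (F i).mul_mem ((F i).mul_mem hk hc) ((F i).inv_mem hk)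
  refine ⟨k * a * k⁻¹, mem_inf.2 ⟨hkS a (subset_closure (by simp)), hF a ha⟩, k * b * k⁻¹,
    mem_inf.2 ⟨hkS b (subset_closure (by simp)), hF b hb⟩, ?_, ?_, ?_⟩
  · rw [orderOf_conj']; exact orderOf_eq_two_of_sq ha2 ha1
  · rw [orderOf_conj']; exact orderOf_eq_two_of_sq hb2 hb1
  · intro h1
    apply hne
    have e : ∀ c : G, c = k⁻¹ * (k * c * k⁻¹) * k := fun c => by group
    rw [e a, h1, ← e b]

theorem inf_ne_bot {S : Sylow 2 G} (hS : (S : Subgroup G) ≤ H) (i : ι) : (S : Subgroup G) ⊓ F i ≠ ⊥ := by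
  obtain ⟨a, ha, -, -, oa, -⟩ := h.exists_two hS i
  intro h1
  rw [h1, mem_bot] at ha
  exact ne_one_of_orderOf oa ha

theorem rich_inf {S : Sylow 2 G} (hS : (S : Subgroup G) ≤ H) (i : ι) : ∀ x ∈ (S : Subgroup G) ⊓ F i, orderOf x = 2 →
    ∃ y ∈ (S : Subgroup G) ⊓ F i, orderOf y = 2 ∧ y ≠ x ∧ x * y = y * x := by
  obtain ⟨a, ha, b, hb, oa, ob, hab⟩ := h.exists_two hS i
  intro x hx ox
  exact exists_partner (P := (S : Subgroup G) ⊓ F i) (S.isPGroup'.to_le inf_le_left) ha hb oa ob hab hx ox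

omit h [Finite G] in
theorem mem_map_conj {A : Subgroup G} {g x : G} : x ∈ A.map (MulAut.conj g).toMonoidHom ↔ g⁻¹ * x * g ∈ A := by
  constructor
  · rintro ⟨y, hy, rfl⟩
    have h1 : g⁻¹ * (MulAut.conj g).toMonoidHom y * g = y := by
      change g⁻¹ * (g * y * g⁻¹) * g = y
      group
    rw [h1]
    exact hy
  · intro h
    refine ⟨_, h, ?_⟩
    change g * (g⁻¹ * x * g) * g⁻¹ = x
    group

theorem inf_injective {S : Sylow 2 G} (hS : (S : Subgroup G) ≤ H) {i j : ι}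
    (hij : (S : Subgroup G) ⊓ F i = (S : Subgroup G) ⊓ F j) : i = j := by
  by_contra hne
  obtain ⟨a, ha, -, -, oa, -⟩ := h.exists_two hS i
  have h1 : a ∈ F j := by
    have := ha
    rw [hij] at this
    exact this.2
  have h2 := h.indep i a ha.2 (mem_iSup_of_mem (⟨j, fun e => hne e.symm⟩ : {j // j ≠ i}) h1)
  exact ne_one_of_orderOf oa (h.eq_one_of_W S.isPGroup' ha.1 h2)

/-- the frame of the parts `S ∩ F i` -/
theorem frame [Nontrivial ι] {S : Sylow 2 G} (hS : (S : Subgroup G) ≤ H) :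
    Cfsg.Agent.OddHalf.D3.Fus.Frame (S : Subgroup G) H (Set.range fun i => (S : Subgroup G) ⊓ F i) where
  le := by
    rintro _ ⟨i, rfl⟩
    exact inf_le_left
  comm := by
    rintro _ ⟨i, rfl⟩ _ ⟨j, rfl⟩ hne a ha b hb
    have hij : i ≠ j := by rintro rfl; exact hne rfl
    have h1 := h.comm i j hij a ha.2 b hb.2
    have h2 : a * b * a⁻¹ * b⁻¹ ∈ (S : Subgroup G) :=
      mul_mem (mul_mem (mul_mem ha.1 hb.1) (inv_mem ha.1)) (inv_mem hb.1)
    have h3 := h.eq_one_of_W S.isPGroup' h2 h1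
    calc a * b = (a * b * a⁻¹ * b⁻¹) * b * a := by group
      _ = b * a := by rw [h3, one_mul]
  perm := by
    rintro s hs _ ⟨i, rfl⟩
    obtain ⟨j, hj⟩ := h.perm s (hS hs) i
    refine ⟨j, ?_⟩
    ext x
    change x ∈ (S : Subgroup G) ⊓ F j ↔ x ∈ ((S : Subgroup G) ⊓ F i).map (MulAut.conj s).toMonoidHom
    rw [mem_map_conj, mem_inf, mem_inf, hj, mem_map_conj]
    constructor
    · rintro ⟨h1, h2⟩
      exact ⟨mul_mem (mul_mem (inv_mem hs) h1) hs, h2⟩
    · rintro ⟨h1, h2⟩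
      refine ⟨?_, h2⟩
      have e : x = s * (s⁻¹ * x * s) * s⁻¹ := by group
      rw [e]
      exact mul_mem (mul_mem hs h1) (inv_mem hs)
  ne := by
    rintro _ ⟨i, rfl⟩
    exact h.inf_ne_bot hS i
  rich := by
    rintro _ ⟨i, rfl⟩
    exact h.rich_inf hS i
  two := by
    obtain ⟨i, j, hij⟩ := exists_pair_ne ι
    exact ⟨_, ⟨i, rfl⟩, _, ⟨j, rfl⟩, fun h1 => hij (h.inf_injective hS h1)⟩
  sc := by
    intro J hJ hJne u hu ou g hg
    have h1 : ∃ l, (S : Subgroup G) ⊓ F l ∉ J := by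
      by_contra hcon
      push Not at hcon
      apply hJne
      refine Set.Subset.antisymm hJ ?_
      rintro _ ⟨i, rfl⟩
      exact hcon i
    obtain ⟨l, hl⟩ := h1
    refine h.sc l u ?_ (sq_of_orderOf ou) (ne_one_of_orderOf ou) g (hS hg)
    have h2 : sSup J ≤ (⨆ j : {j // j ≠ l}, F j.1 : Subgroup G) := by
      refine sSup_le fun A hA => ?_
      obtain ⟨i, rfl⟩ := hJ hA
      have hil : i ≠ l := by rintro rfl; exact hl hA
      exact inf_le_right.trans (le_iSup (fun j : {j // j ≠ l} => F j.1) ⟨i, hil⟩)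
    exact h2 hu

/-- `S ∩ ⟨F i⟩` is strongly closed. -/
theorem isStronglyClosed [Nontrivial ι] {S : Sylow 2 G} (hS : (S : Subgroup G) ≤ H) :
    Cfsg.IsStronglyClosed ((S : Subgroup G) ⊓ ⨆ i, F i) (S : Subgroup G) := by
  haveI : Fact (Nat.Prime 2) := ⟨Nat.prime_two⟩
  have hfr := h.frame hS
  refine Cfsg.Agent.ClassTwoFusion.Ess.isStronglyClosed S _ inf_le_left ?_ ?_
  · intro g hg a ha
    have hgH : g ∈ H := by
      obtain ⟨i0⟩ : Nonempty ι := inferInstance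
      obtain ⟨u, hu, -, -, ou, -⟩ := h.exists_two hS i0
      exact h.sc_mem hu.2 (sq_of_orderOf ou) (ne_one_of_orderOf ou) (hS ((mem_normalizer_iff.1 hg _).1 hu.1))
    exact ⟨(mem_normalizer_iff.1 hg a).1 ha.1, h.conj_mem_join hgH ha.2⟩
  · intro X hX g hg a ha haX
    have hgH := hfr.normalizer_le hX hg
    exact ⟨hX.lt.le ((mem_normalizer_iff.1 hg a).1 haX), h.conj_mem_join hgH ha.2⟩

theorem data [Nontrivial ι] {S : Sylow 2 G} (hS : (S : Subgroup G) ≤ H) :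
    Cfsg.Agent.PermParts.OfProd.Data {x : G | ∃ g : G, g * x * g⁻¹ ∈ (S : Subgroup G) ⊓ ⨆ i, F i} S
      (fun i => (S : Subgroup G) ⊓ F i) := by
  haveI : Fact (Nat.Prime 2) := ⟨Nat.prime_two⟩
  have hcl := h.isStronglyClosed hS
  refine ⟨Cfsg.Agent.TwoFusion.ClosedFam.isClosedFam_of_isStronglyClosed S _ hcl, ?_, ?_, ?_, ?_⟩
  · intro i x hx
    exact ⟨⟨1, by simpa using ⟨hx.1, mem_iSup_of_mem i hx.2⟩⟩, hx.1⟩
  · rintro i x hx q hq ⟨g, hg⟩
    have hqW : q ∈ (S : Subgroup G) ⊓ ⨆ i, F i := by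
      have e : g⁻¹ * (g * q * g⁻¹) * g⁻¹⁻¹ = q := by group
      have := hcl.2 _ hg g⁻¹ (by rw [e]; exact hq)
      rwa [e] at this
    exact mem_inf.2 ⟨(S : Subgroup G).mul_mem ((S : Subgroup G).mul_mem hq hx.1) ((S : Subgroup G).inv_mem hq),
      (mem_normalizer_iff.1 (h.le_normalizer' i hqW.2) x).1 hx.2⟩
  · intro i x hx hx'
    have h1 : (⨆ j : {j // j ≠ i}, (S : Subgroup G) ⊓ F j.1 : Subgroup G) ≤ ⨆ j : {j // j ≠ i}, F j.1 :=
      iSup_mono fun j => inf_le_right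
    exact h.eq_one_of_W S.isPGroup' hx.1 (h.indep i x hx.2 (h1 hx'))
  · intro i x hx g hg
    by_cases hx1 : x = 1
    · refine ⟨i, ?_⟩
      rw [hx1]
      have e : g * 1 * g⁻¹ = 1 := by group
      rw [e]; exact one_mem _
    · obtain ⟨n, hn⟩ := exists_pow_orderOf S.isPGroup' hx.1 hx1
      have hgH : g ∈ H := by
        refine h.sc_mem (pow_mem hx.2 n) (sq_of_orderOf hn) (ne_one_of_orderOf hn) ?_
        rw [← conj_pow]
        exact hS (pow_mem hg n)
      obtain ⟨j, hj⟩ := h.perm g hgH i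
      refine ⟨j, hg, ?_⟩
      change g * x * g⁻¹ ∈ F j
      rw [hj]
      exact ⟨x, hx.2, rfl⟩

end Syl

end Ctrl

end Cfsg.Agent.UGT.TT
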