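import Cfsg.Agent.UGT.TT.Main
import Cfsg.Agent.UGT.SLEnd

/-!
# THEOREM T: conjugates of a side; interfaces

* `Side.conj S g`; `Pair.mk_of_disj`: for at least two components `Pair` only needs the disjointness condition;
* `noAdj_conj`: no adjacent involutions for a side satisfying (T1) (`Ok.t1`) and (T2);
* `Ok.data`: `SL.Data` if there is one component only.
-/

set_option autoImplicit false

namespace Cfsg.Agent.UGT.TT

open Subgroup

universe u v w

variable {G : Type u} [Group G] {Q : Type v} [Group Q] {ι : Type w} {P : Subgroup (MulAut Q)}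

/-- For at least two components the covering conditions follow from the disjointness condition. -/
theorem Pair.mk_of_disj [Finite G] [Nontrivial ι] (T : TFacts Q P) {S S' : Side G Q ι} (ok : S.Ok) (ok' : S'.Ok)
    (disj : ∀ i j y, S.Ind i y 1 → S'.Ind j y 1 → y * y = 1 → y = 1) : Pair S S' := by
  have := T.fin
  obtain ⟨e, he2, he1⟩ := T.inv
  have key : ∀ {S S' : Side G Q ι}, S.Ok → S'.Ok → (∀ i j y, S.Ind i y 1 → S'.Ind j y 1 → y * y = 1 → y = 1) →
      ∀ i j, ∃ q : Q, ∀ x ∈ S'.F j, S'.π j x = q → ¬ S.Ind i x 1 := by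
    intro S S' ok ok' disj i j
    obtain ⟨l, hl⟩ := exists_ne j
    refine ⟨e, fun x hx hxe h1 => ?_⟩
    have h2 := ok'.ind_self hx
    rw [hxe] at h2
    obtain ⟨y, hy, hy2, hy1⟩ := ok'.exists_inv_of_cover (J := zpowers x) (mem_zpowers x) h2
      (T.conj_sq.mpr he2) (T.conj_ne_one he1)
    have hyF : y ∈ S'.F j := (zpowers_le.mpr hx) hy
    have hyK : y ∈ (ok.rel i).pre ⊥ := by
      have h3 : zpowers x ≤ (ok.rel i).pre ⊥ := by
        rw [zpowers_le]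
        exact ⟨1, one_mem _, h1⟩
      exact h3 hy
    obtain ⟨β, hβ, hβy⟩ := hyK
    rw [mem_bot] at hβ
    rw [hβ] at hβy
    exact hy1 (disj i l y hβy (ok'.ind_other hl hyF) hy2)
  exact ⟨ok, ok', disj, key ok ok' disj, key ok' ok (fun i j y h1 h2 h3 => disj j i y h2 h1 h3)⟩

/-- The conjugate of a side. -/
def Side.conj (S : Side G Q ι) (g : G) : Side G Q ι where
  H := S.H.map (MulAut.conj g).toMonoidHom
  W := S.W.map (MulAut.conj g).toMonoidHom
  F i := (S.F i).map (MulAut.conj g).toMonoidHom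
  π i x := S.π i (g⁻¹ * x * g)

theorem mem_cj {A : Subgroup G} {g x : G} : x ∈ A.map (MulAut.conj g).toMonoidHom ↔ g⁻¹ * x * g ∈ A := by
  constructor
  · rintro ⟨y, hy, rfl⟩
    have h1 : g⁻¹ * (MulAut.conj g).toMonoidHom y * g = y := by
      change g⁻¹ * (g * y * g⁻¹) * g = y
      group
    rw [h1]
    exact hy
  · intro h
    refine ⟨_, h, ?_⟩
    change g * (g⁻¹ * x * g) * g⁻¹ = x
    group

theorem cj_mul (g a b : G) : g⁻¹ * (a * b) * g = (g⁻¹ * a * g) * (g⁻¹ * b * g) := by group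

theorem cj_conj (g a b : G) : g⁻¹ * (a * b * a⁻¹) * g = (g⁻¹ * a * g) * (g⁻¹ * b * g) * (g⁻¹ * a * g)⁻¹ := by group

theorem cj_comm (g a b : G) :
    g⁻¹ * (a * b * a⁻¹ * b⁻¹) * g =
      (g⁻¹ * a * g) * (g⁻¹ * b * g) * (g⁻¹ * a * g)⁻¹ * (g⁻¹ * b * g)⁻¹ := by group

theorem cj_cj (g a : G) : g⁻¹ * (g * a * g⁻¹) * g = a := by group

theorem Side.Ok.side_conj {S : Side G Q ι} (h : S.Ok) (g : G) : (S.conj g).Ok where
  WF i := Subgroup.map_mono (h.WF i)
  FH i := Subgroup.map_mono (h.FH i)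
  odd := by
    have h1 : Nat.card ↥(S.W.map (MulAut.conj g).toMonoidHom) = Nat.card ↥S.W :=
      (Nat.card_congr (S.W.equivMapOfInjective _ (MulAut.conj g).injective).toEquiv).symm
    show Odd (Nat.card ↥(S.W.map (MulAut.conj g).toMonoidHom))
    rw [h1]
    exact h.odd
  nW := by
    intro a ha x hx
    rw [Side.conj, mem_cj] at *
    rw [cj_conj]
    exact h.nW _ ha _ hx
  map_mul := by
    intro i x hx y hy
    rw [Side.conj, mem_cj] at hx hy
    show S.π i (g⁻¹ * (x * y) * g) = S.π i (g⁻¹ * x * g) * S.π i (g⁻¹ * y * g)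
    rw [cj_mul, h.map_mul i _ hx _ hy]
  surj := by
    intro i q
    obtain ⟨x, hx, hxq⟩ := h.surj i q
    refine ⟨g * x * g⁻¹, ?_, ?_⟩
    · rw [Side.conj, mem_cj, cj_cj]
      exact hx
    · show S.π i (g⁻¹ * (g * x * g⁻¹) * g) = q
      rw [cj_cj, hxq]
  ker := by
    intro i x hx
    rw [Side.conj, mem_cj] at hx
    show S.π i (g⁻¹ * x * g) = 1 ↔ x ∈ S.W.map (MulAut.conj g).toMonoidHom
    rw [mem_cj]
    exact h.ker i _ hx
  comm := by
    intro i j hij x hx y hy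
    rw [Side.conj, mem_cj] at *
    rw [cj_comm]
    exact h.comm i j hij _ hx _ hy
  perm := by
    intro a ha i
    rw [Side.conj, mem_cj] at ha
    obtain ⟨j, hj⟩ := h.perm _ ha i
    refine ⟨j, fun x hx => ?_⟩
    rw [Side.conj, mem_cj] at *
    rw [cj_conj]
    exact hj _ hx
  t1 := by
    intro i y hy hyc hy2 hy1 c hc
    rw [Side.conj, mem_cj] at *
    refine h.t1 i _ hy (fun x hx => ?_) ?_ ?_ _ ?_
    · have h1 := hyc (g * x * g⁻¹) (by
        show g * x * g⁻¹ ∈ (S.F i).map (MulAut.conj g).toMonoidHom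
        rw [mem_cj, cj_cj]
        exact hx)
      rw [mem_cj, cj_comm, cj_cj] at h1
      exact h1
    · rw [← cj_mul, hy2]; group
    · intro h1
      apply hy1
      calc y = g * (g⁻¹ * y * g) * g⁻¹ := by group
        _ = 1 := by rw [h1]; group
    · rw [← cj_mul, hc, cj_mul]

theorem Side.conj_ind {S : Side G Q ι} {g x : G} {i : ι} {α : MulAut Q} :
    (S.conj g).Ind i x α ↔ S.Ind i (g⁻¹ * x * g) α := by
  constructor
  · rintro ⟨h1, h2⟩
    rw [Side.conj, mem_cj] at h1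
    refine ⟨h1, fun y hy => ?_⟩
    have h3 := h2 (g * y * g⁻¹) (by
      show g * y * g⁻¹ ∈ (S.F i).map (MulAut.conj g).toMonoidHom
      rw [mem_cj, cj_cj]
      exact hy)
    obtain ⟨h4, h5⟩ := h3
    change x * (g * y * g⁻¹) * x⁻¹ ∈ (S.F i).map (MulAut.conj g).toMonoidHom at h4
    change S.π i (g⁻¹ * (x * (g * y * g⁻¹) * x⁻¹) * g) = α (S.π i (g⁻¹ * (g * y * g⁻¹) * g)) at h5
    rw [mem_cj, cj_conj, cj_cj] at h4
    rw [cj_conj, cj_cj] at h5
    exact ⟨h4, h5⟩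
  · rintro ⟨h1, h2⟩
    refine ⟨mem_cj.mpr h1, fun y hy => ?_⟩
    change y ∈ (S.F i).map (MulAut.conj g).toMonoidHom at hy
    rw [mem_cj] at hy
    obtain ⟨h4, h5⟩ := h2 _ hy
    refine ⟨?_, ?_⟩
    · change x * y * x⁻¹ ∈ (S.F i).map (MulAut.conj g).toMonoidHom
      rw [mem_cj, cj_conj]
      exact h4
    · change S.π i (g⁻¹ * (x * y * x⁻¹) * g) = α (S.π i (g⁻¹ * y * g))
      rw [cj_conj]
      exact h5

/-- **No adjacent involutions** for a side with at least two components satisfying (T1) and (T2). -/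
theorem noAdj_conj [Finite G] [Nontrivial ι] {S : Side G Q ι} (h : S.Ok) (T : TFacts Q P)
    (t2 : ∀ (g : G) (i j : ι) (y : G), S.Ind i y 1 → S.Ind j (g⁻¹ * y * g) 1 → y * y = 1 → y ≠ 1 → g ∈ S.H)
    {g : G} (hg : g ∉ S.H) {i : ι} {v : G} (hv : v ∈ S.F i) (hv' : g⁻¹ * v * g ∈ S.H) (hv2 : v * v = 1) : v = 1 := by
  have hP : Pair S (S.conj g) := Pair.mk_of_disj T h (h.side_conj g) (fun i j y h1 h2 h3 => by
    by_contra hy
    exact hg (t2 g i j y h1 (Side.conj_ind.mp h2) h3 hy))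
  exact noAdj hP T hv (mem_cj.mpr hv') hv2

/-! ### one component -/

/-- The subgroup of `H` acting trivially on `F i / W`. -/
def Side.Ok.K [Finite G] [Finite Q] {S : Side G Q ι} (h : S.Ok) (i : ι) : Subgroup G := (h.rel i).pre ⊥

theorem Side.Ok.mem_K [Finite G] [Finite Q] {S : Side G Q ι} (h : S.Ok) {i : ι} {y : G} :
    y ∈ h.K i ↔ S.Ind i y 1 := by
  constructor
  · rintro ⟨β, hβ, hy⟩
    rw [mem_bot] at hβ
    rwa [hβ] at hy
  · intro hy
    exact ⟨1, one_mem _, hy⟩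

/-- the homomorphism `F i → Q` -/
def Side.Ok.hom {S : Side G Q ι} (h : S.Ok) (i : ι) : ↥(S.F i) →* Q :=
  MonoidHom.mk' (fun x => S.π i x) (fun x y => h.map_mul i x x.2 y y.2)

theorem Side.Ok.hom_apply {S : Side G Q ι} (h : S.Ok) (i : ι) (x : ↥(S.F i)) : h.hom i x = S.π i x := rfl

theorem Side.Ok.ker_hom {S : Side G Q ι} (h : S.Ok) (i : ι) : (h.hom i).ker = S.W.subgroupOf (S.F i) := by
  ext x
  rw [MonoidHom.mem_ker, mem_subgroupOf, h.hom_apply, h.ker i x x.2]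

/-- **`SL.Data` for a side with one component.** -/
theorem Side.Ok.data [Finite G] {S : Side G Q ι} (h : S.Ok) (T : TFacts Q P) (hgam : SL.GamAut Q) {i : ι}
    (hi : ∀ j, j = i)
    (t2 : ∀ (g : G) (y : G), S.Ind i y 1 → S.Ind i (g⁻¹ * y * g) 1 → y * y = 1 → y ≠ 1 → g ∈ S.H)
    (t3 : ∀ g : G, g ∉ S.H → ∃ x ∈ S.F i, ∀ k, S.Ind i k 1 → g * k * g⁻¹ ∈ S.H → (g * k * g⁻¹)⁻¹ * x ∉ S.W)
    (t4 : ∃ a b, S.Ind i a 1 ∧ S.Ind i b 1 ∧ a * a = 1 ∧ b * b = 1 ∧ a * b = b * a ∧ a ≠ 1 ∧ b ≠ 1 ∧ a ≠ b) :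
    SL.Data S.H (S.F i) (@Side.Ok.K G _ Q _ ι _ T.fin S h i) S.W := by
  have := T.fin
  have hn : (S.W.subgroupOf (S.F i)).Normal := by
    rw [← h.ker_hom i]
    infer_instance
  have hsurj : Function.Surjective (h.hom i) := by
    intro q
    obtain ⟨x, hx, hxq⟩ := h.surj i q
    exact ⟨⟨x, hx⟩, hxq⟩
  let e : Q ≃* (↥(S.F i) ⧸ S.W.subgroupOf (S.F i)) :=
    (QuotientGroup.quotientKerEquivOfSurjective (h.hom i) hsurj).symm.trans
      (QuotientGroup.quotientMulEquivOfEq (h.ker_hom i))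
  have hs : IsSimpleGroup (↥(S.F i) ⧸ S.W.subgroupOf (S.F i)) := by
    have := T.simple
    exact e.symm.isSimpleGroup
  refine SL.Data.ofQuot hn hs ?_ ?_ (hgam.congr e) (h.FH i) ?_ (h.WF i) ?_ h.odd h.nW ?_ ?_ ?_ ?_ ?_ ?_ ?_ ?_
  · intro hcomm
    apply T.nab
    intro x y
    apply e.injective
    rw [_root_.map_mul, _root_.map_mul]
    exact hcomm _ _
  · obtain ⟨a, ha2, ha1⟩ := T.inv
    have h1 : orderOf a = 2 := orderOf_eq_prime (by rw [pow_two, ha2]) ha1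
    rw [← Nat.card_congr e.toEquiv, ← h1]
    exact orderOf_dvd_natCard a
  · intro y hy
    exact (h.mem_K.mp hy).1
  · intro y hy
    exact h.mem_K.mpr (h.ind_W hy)
  · intro m hm x hx
    obtain ⟨j, hj⟩ := h.perm m hm i
    rw [hi j] at hj
    exact hj x hx
  · intro m hm x hx
    obtain ⟨j, hj⟩ := h.perm m hm i
    rw [hi j] at hj
    obtain ⟨α, hα⟩ := h.exists_ind (i := i) ⟨hm, hj⟩
    have h1 := (hα.mul (h.mem_K.mp hx)).mul (hα.inv h)
    rw [mul_one, mul_inv_cancel] at h1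
    exact h.mem_K.mpr h1
  · intro x hx k hk
    have h1 := (h.ind_one_iff.mp (h.mem_K.mp hk)).2 x hx
    have h2 := S.W.inv_mem h1
    have h3 : (k * x * k⁻¹ * x⁻¹)⁻¹ = x * k * x⁻¹ * k⁻¹ := by group
    rwa [h3] at h2
  · intro m hm hx
    exact h.mem_K.mpr (h.ind_one_iff.mpr ⟨hm, hx⟩)
  · intro y hy hy2 hy1 c hc
    exact h.t1' (h.mem_K.mp hy) hy2 hy1 hc
  · intro g hg y hy hy2 hy1 hcon
    apply hg
    have h1 := t2 g⁻¹ y (h.mem_K.mp hy) (by rw [inv_inv]; exact h.mem_K.mp hcon) hy2 hy1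
    have h2 := S.H.inv_mem h1
    rwa [inv_inv] at h2
  · intro g hg
    obtain ⟨x, hx, hxk⟩ := t3 g hg
    exact ⟨x, hx, fun k hk => hxk k (h.mem_K.mp hk)⟩
  · obtain ⟨a, b, ha, hb, h1⟩ := t4
    exact ⟨a, h.mem_K.mpr ha, b, h.mem_K.mpr hb, h1⟩

end Cfsg.Agent.UGT.TT
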