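import Cfsg.Agent.UGT.TT.Conj

/-!
# THEOREM T: at least three components, all involutions trivial on a component

`noAdj_all`: if there are at least three components and `u ∈ H ∩ H'` is an involution acting trivially on some
`F i / W`, then `u = 1`.
-/

set_option autoImplicit false

namespace Cfsg.Agent.UGT.TT

open Subgroup
open scoped commutatorElement

universe u v w

variable {G : Type u} [Group G] {Q : Type v} [Group Q] {ι : Type w} {P : Subgroup (MulAut Q)}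

/-- every involutory automorphism fixes an involution -/
theorem TFacts.exists_fixed' (T : TFacts Q P) {β : MulAut Q} (hβ2 : β * β = 1) :
    ∃ r : Q, r * r = 1 ∧ r ≠ 1 ∧ β r = r := by
  by_cases h1 : β = 1
  · obtain ⟨e, he2, he1⟩ := T.inv
    exact ⟨e, he2, he1, by rw [h1]; rfl⟩
  · by_cases h : β ∈ P
    · exact T.exists_fixed h hβ2 h1
    · obtain ⟨J, -, hfix, e, he, he2, he1⟩ := T.field β hβ2 h
      exact ⟨e, he2, he1, hfix e he⟩

namespace Side

variable {S : Side G Q ι}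

theorem Ok.norm_F (h : S.Ok) {j k : ι} : ∀ b ∈ S.F k, ∀ a ∈ S.F j, b * a * b⁻¹ ∈ S.F j := by
  intro b hb a ha
  by_cases hjk : j = k
  · subst hjk
    exact (S.F j).mul_mem ((S.F j).mul_mem hb ha) ((S.F j).inv_mem hb)
  · exact ((h.ind_other hjk hb).2 a ha).1

/-- an element of `F j F k` acting trivially on both is in `W` -/
theorem Ok.mem_W_of_triv (h : S.Ok) (T : TFacts Q P) {j k : ι} (hjk : j ≠ k) {a : G} (ha : a ∈ S.F j ⊔ S.F k)
    (h1 : S.Ind j a 1) (h2 : S.Ind k a 1) : a ∈ S.W := by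
  obtain ⟨x, hx, y, hy, rfl⟩ := SL.exists_mul_of_mem_sup (h.norm_F (j := j) (k := k)) ha
  have hx1 : x ∈ S.W := by
    rw [← h.ker j x hx]
    by_contra hne
    have h3 := (h.ind_self hx).mul (h.ind_other hjk hy)
    rw [mul_one] at h3
    exact T.conj_ne_one hne (h.ind_uniq h3 h1)
  have hy1 : y ∈ S.W := by
    rw [← h.ker k y hy]
    by_contra hne
    have h3 := (h.ind_other (Ne.symm hjk) hx).mul (h.ind_self hy)
    rw [one_mul] at h3
    exact T.conj_ne_one hne (h.ind_uniq h3 h2)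
  exact S.W.mul_mem hx1 hy1

/-- transport of a trivial action -/
theorem Ok.triv_transport (h : S.Ok) {j k : ι} {c d : G} (hc : c ∈ S.H)
    (hcd : c * d = d * c) (hk : ∀ x ∈ S.F j, c * x * c⁻¹ ∈ S.F k) (h1 : S.Ind k d 1) : S.Ind j d 1 := by
  rw [h.ind_one_iff] at h1 ⊢
  refine ⟨h1.1, fun x hx => ?_⟩
  have h2 := h1.2 _ (hk x hx)
  have h3 := h.nW c⁻¹ (S.H.inv_mem hc) _ h2
  have h4 : c⁻¹ * d * c = d := by rw [mul_assoc, ← hcd, inv_mul_cancel_left]
  have h5 : c⁻¹ * (d * (c * x * c⁻¹) * d⁻¹ * (c * x * c⁻¹)⁻¹) * c⁻¹⁻¹ =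
      (c⁻¹ * d * c) * x * (c⁻¹ * d * c)⁻¹ * x⁻¹ := by group
  rw [h5, h4] at h3
  exact h3

/-- the diagonal of two components swapped by an involution -/
theorem Ok.exists_diag [Finite G] (h : S.Ok) (T : TFacts Q P) {j k : ι} (hjk : j ≠ k) {c : G} (hc : c ∈ S.H)
    (hc2 : c * c = 1) (hk : ∀ x ∈ S.F j, c * x * c⁻¹ ∈ S.F k) :
    ∃ J : Subgroup G, J ≤ ⁅J, J⁆ ∧ (∀ a ∈ J, a * c = c * a) ∧ J ≤ S.F j ⊔ S.F k ∧
      ∃ d ∈ J, d * d = 1 ∧ d ≠ 1 ∧ ¬ S.Ind j d 1 ∧ ¬ S.Ind k d 1 := by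
  have := T.fin
  have hcov : (⊤ : Subgroup Q).map (MulAut.conj : Q →* MulAut Q) ≤
      (h.rel j).im ((S.F j ⊔ S.F k) ⊓ centralizer ({c} : Set G)) := by
    rintro _ ⟨q, -, rfl⟩
    obtain ⟨x, hx, hxq⟩ := h.surj j q
    have hvx := hk x hx
    obtain ⟨w, hw, hww⟩ := exists_fix_coset (x := x * (c * x * c⁻¹)) h.odd (Cfsg.Agent.UGT.SL.two_isPGroup hc2)
      (fun t ht w hw => by
        rcases mem_zpowers_inv hc2 ht with rfl | rfl
        · simpa using hw
        · exact h.nW t hc w hw) (fun t ht => by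
        rcases mem_zpowers_inv hc2 ht with rfl | rfl
        · have h1 : (x * (c * x * c⁻¹))⁻¹ * (1 * (x * (c * x * c⁻¹)) * 1⁻¹) = 1 := by group
          rw [h1]
          exact S.W.one_mem
        · have h1 := h.comm k j (Ne.symm hjk) _ ((S.F k).inv_mem hvx) _ ((S.F j).inv_mem hx)
          have h2 : (x * (t * x * t⁻¹))⁻¹ * (t * (x * (t * x * t⁻¹)) * t⁻¹) =
              (t * x * t⁻¹)⁻¹ * x⁻¹ * (t * x * t⁻¹) * ((t * t) * x * (t * t)⁻¹) := by group
          rw [h2, hc2]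
          have h3 : (t * x * t⁻¹)⁻¹ * x⁻¹ * (t * x * t⁻¹) * (1 * x * 1⁻¹) =
              (t * x * t⁻¹)⁻¹ * x⁻¹ * (t * x * t⁻¹)⁻¹⁻¹ * x⁻¹⁻¹ := by group
          rw [h3]
          exact h1)
    refine ⟨x * (c * x * c⁻¹) * w, ⟨?_, ?_⟩, ?_⟩
    · exact mul_mem (mul_mem (mem_sup_left hx) (mem_sup_right hvx)) (mem_sup_left (h.WF j hw))
    · exact mem_centralizer_singleton_iff.mpr (hww c (mem_zpowers c)).symm
    · have h1 := ((h.ind_self hx).mul (h.ind_other hjk hvx)).mul (h.ind_W (i := j) hw)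
      rwa [mul_one, mul_one, hxq] at h1
  have hperf : (⊤ : Subgroup Q).map (MulAut.conj : Q →* MulAut Q) ≤
      ⁅(⊤ : Subgroup Q).map (MulAut.conj : Q →* MulAut Q), (⊤ : Subgroup Q).map (MulAut.conj : Q →* MulAut Q)⁆ := by
    rw [← map_commutator, T.perfect]
  obtain ⟨J, hJA, hJp, hJcov⟩ := (h.rel j).exists_perfect hcov hperf
  refine ⟨J, hJp, fun a ha => mem_centralizer_singleton_iff.mp (hJA ha).2, fun a ha => (hJA ha).1, ?_⟩
  obtain ⟨e, he2, he1⟩ := T.inv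
  obtain ⟨y0, hy0, hy0e⟩ := hJcov ⟨e, mem_top e, rfl⟩
  -- the 2-part of `y0`
  obtain ⟨n, m, hm, hnm⟩ := Nat.exists_eq_two_pow_mul_odd (orderOf_pos y0).ne'
  have hpow : ∀ l : ℕ, S.Ind j (y0 ^ l) (MulAut.conj (e ^ l)) := by
    intro l
    induction l with
    | zero => rw [pow_zero, pow_zero, map_one]; exact Ind.one
    | succ l ih => rw [pow_succ, pow_succ, _root_.map_mul]; exact ih.mul hy0e
  have heodd : ∀ l : ℕ, Odd l → e ^ l = e := by
    rintro l ⟨r, rfl⟩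
    rw [pow_succ, pow_mul, pow_two, he2, one_pow, one_mul]
  obtain ⟨y, hy⟩ : ∃ y, y = y0 ^ m := ⟨_, rfl⟩
  have hyJ : y ∈ J := by rw [hy]; exact J.pow_mem hy0 m
  have hyj : S.Ind j y (MulAut.conj e) := by
    have h1 := hpow m
    rw [heodd m hm] at h1
    rw [hy]
    exact h1
  have hyc : y * c = c * y := mem_centralizer_singleton_iff.mp (hJA hyJ).2
  have hyord : y ^ 2 ^ n = 1 := by
    rw [hy, ← pow_mul, mul_comm, ← hnm, pow_orderOf_eq_one]
  -- the square is in `W`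
  have hk' : ∀ x ∈ S.F k, c * x * c⁻¹ ∈ S.F j := by
    obtain ⟨m', hm'⟩ := h.perm c hc k
    have h1 : j = m' := by
      apply h.le_eq T
      intro x hx
      have h2 := hm' _ (hk x hx)
      have h3 : c * (c * x * c⁻¹) * c⁻¹ = (c * c) * x * (c * c)⁻¹ := by group
      rw [h3, hc2] at h2
      simpa using h2
    rw [h1]
    exact hm'
  have htr : ∀ d : G, d * c = c * d → (S.Ind j d 1 ↔ S.Ind k d 1) := fun d hd =>
    ⟨fun h1 => h.triv_transport hc hd.symm hk' h1, fun h1 => h.triv_transport hc hd.symm hk h1⟩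
  have hyy : y * y = 1 := by
    have h1 : S.Ind j (y * y) 1 := by
      have h2 := hyj.mul hyj
      rwa [← _root_.map_mul, he2, map_one] at h2
    have hc' : y * y * c = c * (y * y) := by rw [mul_assoc, hyc, ← mul_assoc, hyc, mul_assoc]
    have h2 := (htr _ hc').mp h1
    have h3 : y * y ∈ S.W := h.mem_W_of_triv T hjk (mul_mem (hJA hyJ).1 (hJA hyJ).1) h1 h2
    -- a 2-element of `W`
    have h4 : orderOf (y * y) ∣ Nat.card S.W := Subgroup.orderOf_dvd_natCard _ h3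
    have h5 : orderOf (y * y) ∣ 2 ^ n := by
      apply orderOf_dvd_of_pow_eq_one
      rw [(Commute.refl y).mul_pow, hyord, one_mul]
    have h6 : orderOf (y * y) ∣ Nat.gcd (2 ^ n) (Nat.card S.W) := Nat.dvd_gcd h5 h4
    have h7 : Nat.gcd (2 ^ n) (Nat.card S.W) = 1 :=
      Nat.Coprime.pow_left n ((Nat.coprime_two_left).mpr h.odd)
    rw [h7, Nat.dvd_one, orderOf_eq_one_iff] at h6
    exact h6
  have hnj : ¬ S.Ind j y 1 := fun h1 => T.conj_ne_one he1 (h.ind_uniq hyj h1)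
  exact ⟨y, hyJ, hyy, ne_one_of_ind h hyj (T.conj_ne_one he1), hnj, fun h1 => hnj ((htr y hyc).mpr h1)⟩

/-- commutators of elements preserving a pair of components normalise both -/
theorem Ok.comm_nrm' [Finite G] (h : S.Ok) (T : TFacts Q P) {i k : ι} (hik : i ≠ k) {X : Subgroup G} (hXH : X ≤ S.H)
    (h2 : ∀ a ∈ X, ∀ m, ((∀ x ∈ S.F i, a * x * a⁻¹ ∈ S.F m) ∨ (∀ x ∈ S.F k, a * x * a⁻¹ ∈ S.F m)) → m = i ∨ m = k)
    {a b : G} (ha : a ∈ X) (hb : b ∈ X) : S.Nrm i ⁅a, b⁆ := by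
  have key : ∀ a ∈ X, (S.Nrm i a ∧ S.Nrm k a) ∨
      ((∀ x ∈ S.F i, a * x * a⁻¹ ∈ S.F k) ∧ (∀ x ∈ S.F k, a * x * a⁻¹ ∈ S.F i)) := by
    intro a ha
    obtain ⟨m, hm⟩ := h.perm a (hXH ha) i
    obtain ⟨m', hm'⟩ := h.perm a (hXH ha) k
    rcases h2 a ha m (Or.inl hm) with rfl | rfl
    · rcases h2 a ha m' (Or.inr hm') with h3 | rfl
      · exfalso
        rw [h3] at hm'
        exact hik (h.perm_inj T (hXH ha) hm hm')
      · exact Or.inl ⟨⟨hXH ha, hm⟩, ⟨hXH ha, hm'⟩⟩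
    · rcases h2 a ha m' (Or.inr hm') with rfl | h3
      · exact Or.inr ⟨hm, hm'⟩
      · exfalso
        rw [h3] at hm'
        exact hik (h.perm_inj T (hXH ha) hm hm')
  have ha' := X.inv_mem ha
  have hb' := X.inv_mem hb
  refine ⟨?_, ?_⟩
  · rw [commutatorElement_def]
    exact hXH (X.mul_mem (X.mul_mem (X.mul_mem ha hb) ha') hb')
  · intro x hx
    have e1 : ⁅a, b⁆ * x * ⁅a, b⁆⁻¹ = a * (b * (a⁻¹ * (b⁻¹ * x * b⁻¹⁻¹) * a⁻¹⁻¹) * b⁻¹) * a⁻¹ := by
      rw [commutatorElement_def]; group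
    rw [e1]
    rcases key b hb with hb1 | hb1
    · have hb2 : S.Nrm i b⁻¹ := hb1.1.inv
      rcases key a ha with ha1 | ha1
      · exact ha1.1.2 _ (hb1.1.2 _ (ha1.1.inv.2 _ (hb2.2 x hx)))
      · rcases key a⁻¹ ha' with ha2 | ha2
        · exfalso
          apply hik
          apply h.perm_inj T (hXH ha) (m := k) ha1.1
          have h4 := ha2.2.inv
          rw [inv_inv] at h4
          exact h4.2
        · exact ha1.2 _ (hb1.2.2 _ (ha2.1 _ (hb2.2 x hx)))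
    · rcases key b⁻¹ hb' with hb2 | hb2
      · exfalso
        apply hik
        apply h.perm_inj T (hXH hb) (m := k) hb1.1
        have h4 := hb2.2.inv
        rw [inv_inv] at h4
        exact h4.2
      · rcases key a ha with ha1 | ha1
        · exact ha1.1.2 _ (hb1.2 _ (ha1.2.inv.2 _ (hb2.1 x hx)))
        · rcases key a⁻¹ ha' with ha2 | ha2
          · exfalso
            apply hik
            apply h.perm_inj T (hXH ha) (m := k) ha1.1
            have h4 := ha2.2.inv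
            rw [inv_inv] at h4
            exact h4.2
          · exact ha1.2 _ (hb1.1 _ (ha2.2 _ (hb2.1 x hx)))

end Side

variable {S S' : Side G Q ι}

/-- An involution of `H ∩ H'` trivial on a component of `H` moves every component of `H'`. -/
theorem not_nrm [Finite G] (hP : Pair S S') (T : TFacts Q P) [Nontrivial ι] {i k : ι} {y : G} (hy : S.Ind i y 1)
    (hy2 : y * y = 1) (hy1 : y ≠ 1) : ¬ S'.Nrm k y := by
  have := T.fin
  intro hk
  have hok := hP.ok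
  have hok' := hP.ok'
  obtain ⟨β, hβ⟩ := hok'.exists_ind hk
  obtain ⟨r, hr2, hr1, hβr⟩ := T.exists_fixed' (hok'.ind_sq hβ hy2)
  obtain ⟨e, he, heq, he2, hee⟩ := hok'.exists_inv_set (i := k) (s := {y}) (q := r)
    (by rintro x rfl; exact hy2) (by rintro x rfl z rfl; rfl) (by rintro x rfl; exact ⟨β, hβ, hβr⟩) hr2
  have heH : e ∈ S.H := hok.t1' hy hy2 hy1 (hee y rfl).symm
  have he1 := noAdj hP.symm T he heH he2
  rw [he1, hok'.one] at heq
  exact hr1 heq.symm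

/-- **At least three components: no involution of `H ∩ H'` is trivial on a component.** -/
theorem noAdj_all [Finite G] (hP : Pair S S') (T : TFacts Q P) {j0 k0 m0 : ι} (h1 : j0 ≠ k0) (h2 : j0 ≠ m0)
    (h3 : k0 ≠ m0) {i : ι} {y : G} (hy : S.Ind i y 1) (hy' : y ∈ S'.H) (hy2 : y * y = 1) : y = 1 := by
  have := T.fin
  have : Nontrivial ι := ⟨j0, k0, h1⟩
  by_contra hy1
  -- a third index
  have third : ∀ a b : ι, ∃ c, c ≠ a ∧ c ≠ b := by
    intro a b
    by_cases ha : j0 = a ∨ j0 = b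
    · by_cases hb : k0 = a ∨ k0 = b
      · refine ⟨m0, ?_, ?_⟩
        · rintro rfl
          rcases ha with ha | rfl
          · exact h2 ha
          · rcases hb with hb | hb
            · exact h3 hb
            · exact h1 hb.symm
        · rintro rfl
          rcases ha with rfl | ha
          · rcases hb with hb | hb
            · exact h1 hb.symm
            · exact h3 hb
          · exact h2 ha
      · push Not at hb
        exact ⟨k0, hb⟩
    · push Not at ha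
      exact ⟨j0, ha⟩
  -- the step: from an involution of `K i ∩ H'` to a perfect group
  have step : ∀ {S S' : Side G Q ι}, Pair S S' → ∀ {i : ι} {y : G}, S.Ind i y 1 → y ∈ S'.H → y * y = 1 → y ≠ 1 →
      ∃ j k : ι, j ≠ k ∧ ∃ J : Subgroup G, J ≤ ⁅J, J⁆ ∧ (∀ a ∈ J, a * y = y * a) ∧ J ≤ S'.F j ⊔ S'.F k ∧
        ∃ d ∈ J, d * d = 1 ∧ d ≠ 1 ∧ ¬ S'.Ind j d 1 ∧ ¬ S'.Ind k d 1 := by
    intro S S' hP i y hy hy' hy2 hy1
    obtain ⟨k, hk⟩ := hP.ok'.perm y hy' j0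
    have hjk : j0 ≠ k := by
      rintro rfl
      exact not_nrm hP T hy hy2 hy1 ⟨hy', hk⟩
    exact ⟨j0, k, hjk, hP.ok'.exists_diag T hjk hy' hy2 hk⟩
  obtain ⟨j, k, hjk, J, hJ, hJc, hJF, d, hd, hd2, hd1, hdj, hdk⟩ := step hP hy hy' hy2 hy1
  obtain ⟨m, hmj, hmk⟩ := third j k
  -- `d` is trivial on `F' m` and lies in `H`
  have htriv : ∀ {S : Side G Q ι}, S.Ok → ∀ {j k m : ι}, m ≠ j → m ≠ k → ∀ x ∈ S.F j ⊔ S.F k, S.Ind m x 1 := by
    intro S h j k m hmj hmk x hx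
    have h4 : S.F j ⊔ S.F k ≤ (h.rel m).pre ⊥ := by
      refine sup_le (fun a ha => ?_) (fun a ha => ?_)
      · exact ⟨1, one_mem _, h.ind_other hmj ha⟩
      · exact ⟨1, one_mem _, h.ind_other hmk ha⟩
    obtain ⟨β, hβ, hx'⟩ := h4 hx
    rw [mem_bot] at hβ
    rwa [hβ] at hx'
  have hdm := htriv hP.ok' hmj hmk d (hJF hd)
  have hdH : d ∈ S.H := hP.ok.t1' hy hy2 hy1 (hJc d hd)
  obtain ⟨a, b, hab, J2, hJ2, hJ2c, hJ2F, x, hx, hx2, hx1, -, -⟩ := step hP.symm hdm hdH hd2 hd1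
  obtain ⟨c, hca, hcb⟩ := third a b
  have hxc := htriv hP.ok hca hcb x (hJ2F hx)
  -- `J2` is in `H'` and normalises `F' j`
  have hJ2H : J2 ≤ S'.H := fun z hz => hP.ok'.t1' hdm hd2 hd1 (hJ2c z hz)
  have hmove : ∀ z ∈ J2, ∀ m', ((∀ x ∈ S'.F j, z * x * z⁻¹ ∈ S'.F m') ∨ (∀ x ∈ S'.F k, z * x * z⁻¹ ∈ S'.F m')) →
      m' = j ∨ m' = k := by
    intro z hz m' hm'
    by_contra hcon
    push Not at hcon
    have h4 := htriv hP.ok' hcon.1 hcon.2 d (hJF hd)
    rcases hm' with hm' | hm'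
    · exact hdj (hP.ok'.triv_transport (hJ2H hz) (hJ2c z hz) hm' h4)
    · exact hdk (hP.ok'.triv_transport (hJ2H hz) (hJ2c z hz) hm' h4)
  have hN : J2 ≤ S'.N j := by
    refine hJ2.trans ?_
    rw [commutator_le]
    intro z hz z' hz'
    exact hP.ok'.comm_nrm' T hjk hJ2H hmove hz hz'
  exact not_nrm hP T hxc hx2 hx1 (hN hx)

/-- conjugate form of `noAdj_all` -/
theorem noAdj_all_conj [Finite G] {S : Side G Q ι} (h : S.Ok) (T : TFacts Q P) {j0 k0 m0 : ι} (h1 : j0 ≠ k0)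
    (h2 : j0 ≠ m0) (h3 : k0 ≠ m0)
    (t2 : ∀ (g : G) (i j : ι) (y : G), S.Ind i y 1 → S.Ind j (g⁻¹ * y * g) 1 → y * y = 1 → y ≠ 1 → g ∈ S.H)
    {g : G} (hg : g ∉ S.H) {i : ι} {y : G} (hy : S.Ind i y 1) (hy' : g⁻¹ * y * g ∈ S.H) (hy2 : y * y = 1) :
    y = 1 := by
  have : Nontrivial ι := ⟨j0, k0, h1⟩
  have hP : Pair S (S.conj g) := Pair.mk_of_disj T h (h.side_conj g) (fun i j y h1 h2 h3 => by
    by_contra hy
    exact hg (t2 g i j y h1 (Side.conj_ind.mp h2) h3 hy))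
  exact noAdj_all hP T h1 h2 h3 hy (mem_cj.mpr hy') hy2

end Cfsg.Agent.UGT.TT
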