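import Cfsg.Agent.UGT.TT.Ctrl
import Cfsg.Agent.PermParts.Consumer

/-!
# Permuted parts modulo an odd core: the end

`Ctrl.false_of_two`: a configuration `Ctrl H W F` with at least two parts is impossible in a group `G` with `O(G) = 1`
and with a normal simple subgroup `X` with `C_G(X) = 1`.
-/

set_option autoImplicit false
set_option linter.style.haveILetI false

namespace Cfsg.Agent.UGT.TT

open Subgroup
open Cfsg.Agent.TwoFusion.ClosedFam (fam IsClosedFam)

universe u v w

/-! ### The ambient group -/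

/-- In a group with a normal simple subgroup `X` with `C_G(X) = 1` every nontrivial subgroup normalised by `X`
contains `X`. -/
theorem le_of_normalised {G : Type u} [Group G] {X : Subgroup G} (hX : X.Normal) (hXs : IsSimpleGroup X)
    (hXc : centralizer (X : Set G) = ⊥) {K : Subgroup G} (hK : ∀ g ∈ X, ∀ k ∈ K, g * k * g⁻¹ ∈ K) (hne : K ≠ ⊥) :
    X ≤ K := by
  have h1 : (K.subgroupOf X).Normal := by
    refine ⟨fun n hn g => ?_⟩
    rw [mem_subgroupOf] at hn ⊢
    exact hK g g.2 _ hn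
  rcases IsSimpleGroup.eq_bot_or_eq_top_of_normal _ h1 with h | h
  · exfalso
    apply hne
    rw [eq_bot_iff, ← hXc]
    intro k hk
    rw [mem_centralizer_iff]
    intro x hx
    have h3 : x * k * x⁻¹ * k⁻¹ ∈ X := by
      have h5 : x * k * x⁻¹ * k⁻¹ = x * (k * x⁻¹ * k⁻¹) := by group
      rw [h5]
      exact X.mul_mem hx (hX.conj_mem _ (X.inv_mem hx) k)
    have h4 : (⟨x * k * x⁻¹ * k⁻¹, h3⟩ : X) ∈ K.subgroupOf X := by
      rw [mem_subgroupOf]
      exact K.mul_mem (hK x hx k hk) (K.inv_mem hk)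
    rw [h, mem_bot] at h4
    have h6 : x * k * x⁻¹ * k⁻¹ = 1 := congrArg Subtype.val h4
    calc x * k = (x * k * x⁻¹ * k⁻¹) * k * x := by group
      _ = k * x := by rw [h6, one_mul]
  · intro x hx
    have h3 : (⟨x, hx⟩ : X) ∈ K.subgroupOf X := by rw [h]; trivial
    rwa [mem_subgroupOf] at h3

/-- **The permuted product theorem** in a group with `O(G) = 1` with a normal simple subgroup `X` with `C_G(X) = 1`. -/
theorem eq_of_data {G : Type u} [Group G] [Finite G] {ι : Type v} {𝒜 : Set G} {S : Sylow 2 G} {P : ι → Subgroup G}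
    (h : Cfsg.Agent.PermParts.OfProd.Data 𝒜 S P)
    (hr : ∀ i, ∀ x ∈ P i, orderOf x = 2 → ∃ y ∈ P i, orderOf y = 2 ∧ y ≠ x ∧ x * y = y * x)
    (hO : Cfsg.oddCore G = ⊥) {X : Subgroup G} (hX : X.Normal) (hXs : IsSimpleGroup X)
    (hXc : centralizer (X : Set G) = ⊥) {i j : ι} (hi : P i ≠ ⊥) (hj : P j ≠ ⊥) : i = j := by
  by_contra hij
  have hex : ∀ k, P k ≠ ⊥ → ∃ x ∈ P k, x ≠ 1 := fun k hk => by
    obtain ⟨⟨a, ha⟩, ha1⟩ := ne_bot_iff_exists_ne_one.1 hk
    exact ⟨a, ha, fun e => ha1 (Subtype.ext e)⟩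
  obtain ⟨x, hx, hx1⟩ := hex i hi
  obtain ⟨y, hy, hy1⟩ := hex j hj
  -- `X ≤ ⟨𝒜⟩`
  have hXA : X ≤ fam 𝒜 (⊤ : Subgroup G) := by
    refine le_of_normalised hX hXs hXc ?_ ?_
    · intro g _ k hk
      have h1 : fam 𝒜 (⊤ : Subgroup G) ≤ (fam 𝒜 (⊤ : Subgroup G)).comap (MulAut.conj g).toMonoidHom := by
        unfold fam
        rw [closure_le]
        rintro a ⟨ha, -⟩
        exact subset_closure ⟨h.fam.conj_mem a ha g, trivial⟩
      exact h1 hk
    · intro h1
      have h2 : x ∈ fam 𝒜 (⊤ : Subgroup G) := subset_closure ⟨(h.le i x hx).1, trivial⟩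
      rw [h1, mem_bot] at h2
      exact hx1 h2
  have hcomm : ∀ g ∈ X, g * x * g⁻¹ * y = y * (g * x * g⁻¹) := by
    intro g hg
    have h1 := Cfsg.Agent.PermParts.Consumer.commutator_mem_of_data h hr hij hx hy (hXA hg)
    rw [hO, mem_bot] at h1
    calc g * x * g⁻¹ * y = (g * x * g⁻¹ * y * (g * x * g⁻¹)⁻¹ * y⁻¹) * y * (g * x * g⁻¹) := by group
      _ = y * (g * x * g⁻¹) := by rw [h1, one_mul]
  -- the subgroup generated by the conjugates of `x` under `X`
  set K : Subgroup G := closure {z | ∃ g ∈ X, z = g * x * g⁻¹} with hK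
  have hKX : X ≤ K := by
    refine le_of_normalised hX hXs hXc ?_ ?_
    · intro g hg k hk
      have h1 : K ≤ K.comap (MulAut.conj g).toMonoidHom := by
        conv_lhs => rw [hK]
        rw [closure_le]
        rintro _ ⟨c, hc, rfl⟩
        refine subset_closure ⟨g * c, X.mul_mem hg hc, ?_⟩
        change g * (c * x * c⁻¹) * g⁻¹ = _
        group
      exact h1 hk
    · intro h1
      have h2 : x ∈ K := subset_closure ⟨1, X.one_mem, by group⟩
      rw [h1, mem_bot] at h2
      exact hx1 h2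
  have hKy : K ≤ centralizer {y} := by
    rw [hK, closure_le]
    rintro _ ⟨g, hg, rfl⟩
    rw [SetLike.mem_coe, mem_centralizer_singleton_iff]
    exact hcomm g hg
  have h1 : y ∈ centralizer (X : Set G) := by
    rw [mem_centralizer_iff]
    intro g hg
    exact mem_centralizer_singleton_iff.1 (hKy (hKX hg))
  rw [hXc, mem_bot] at h1
  exact hy1 h1

/-! ### The end -/

namespace Ctrl

variable {G : Type u} [Group G] [Finite G] {ι : Type w} {H W : Subgroup G} {F : ι → Subgroup G}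

/-- **The end.** -/
theorem false_of_two (h : Ctrl H W F) [Nontrivial ι] (hO : Cfsg.oddCore G = ⊥) {X : Subgroup G} (hX : X.Normal) (hXs : IsSimpleGroup X)
    (hXc : centralizer (X : Set G) = ⊥) : False := by
  obtain ⟨S, hS⟩ := h.exists_sylow
  obtain ⟨i, j, hij⟩ := exists_pair_ne ι
  exact hij (eq_of_data (h.data hS) (fun i => h.rich_inf hS i) hO hX hXs hXc (h.inf_ne_bot hS i) (h.inf_ne_bot hS j))

end Ctrl

end Cfsg.Agent.UGT.TT
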