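import Cfsg.Agent.UGT.TT.ToCtrl
import Cfsg.Agent.UGT.TT.CtrlEnd

/-!
# THEOREM T: the end for at least two components

`Side.Ok.false_of_two`: a side with at least two components satisfying (T1) and (T2) does not exist in a group `G` with
`O(G) = 1` and a normal simple subgroup `X` with `C_G(X) = 1`.
`Side.Ok.false_of_na`: the same with the conclusions of `noAdj_conj`, `noAdj_all_conj` as hypotheses.
-/

set_option autoImplicit false

namespace Cfsg.Agent.UGT.TT

open Subgroup

universe u v w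

variable {G : Type u} [Group G] {Q : Type v} [Group Q] {ι : Type w} {P : Subgroup (MulAut Q)}

/-- **THEOREM T, at least two components, no adjacent involutions.** -/
theorem Side.Ok.false_of_na [Finite G] [Nontrivial ι] {S : Side G Q ι} (h : S.Ok) (T : TBase Q)
    (na1 : ∀ g, g ∉ S.H → ∀ i, ∀ v ∈ S.F i, g⁻¹ * v * g ∈ S.H → v * v = 1 → v = 1)
    (na3 : (∃ i j k : ι, i ≠ j ∧ i ≠ k ∧ j ≠ k) →
      ∀ g, g ∉ S.H → ∀ i y, S.Ind i y 1 → g⁻¹ * y * g ∈ S.H → y * y = 1 → y = 1)
    (hO : Cfsg.oddCore G = ⊥) {X : Subgroup G} (hX : X.Normal) (hXs : IsSimpleGroup X)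
    (hXc : centralizer (X : Set G) = ⊥) : False :=
  (h.ctrl_of T na1 na3).false_of_two hO hX hXs hXc

/-- **THEOREM T, at least two components.** -/
theorem Side.Ok.false_of_two [Finite G] [Nontrivial ι] {S : Side G Q ι} (h : S.Ok) (T : TFacts Q P)
    (t2 : ∀ (g : G) (i j : ι) (y : G), S.Ind i y 1 → S.Ind j (g⁻¹ * y * g) 1 → y * y = 1 → y ≠ 1 → g ∈ S.H)
    (hO : Cfsg.oddCore G = ⊥) {X : Subgroup G} (hX : X.Normal) (hXs : IsSimpleGroup X)
    (hXc : centralizer (X : Set G) = ⊥) : False :=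
  (h.ctrl T t2).false_of_two hO hX hXs hXc

end Cfsg.Agent.UGT.TT
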