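import Cfsg.Agent.UGT.TT.Swap

/-!
# THEOREM T, PIECE 5 (helper459 #10239): no adjacent pair

`noAdj`: if there are at least two components, no involution of `F i` lies in `H' ≠ H`.
-/

set_option autoImplicit false

namespace Cfsg.Agent.UGT.TT

open Subgroup
open scoped commutatorElement

universe u v w

variable {G : Type u} [Group G] {Q : Type v} [Group Q] {ι : Type w} {P : Subgroup (MulAut Q)}

theorem TFacts.exists_fixed (T : TFacts Q P) {β : MulAut Q} (hβ : β ∈ P) (hβ2 : β * β = 1) (hβ1 : β ≠ 1) :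
    ∃ r : Q, r * r = 1 ∧ r ≠ 1 ∧ β r = r := by
  by_cases h : ∃ q, β = MulAut.conj q
  · obtain ⟨q, rfl⟩ := h
    refine ⟨q, T.conj_sq.mp hβ2, ?_, ?_⟩
    · rintro rfl
      exact hβ1 (map_one _)
    · rw [MulAut.conj_apply, mul_inv_cancel_right]
  · push Not at h
    exact T.fix β hβ hβ2 h

namespace Side

variable {S : Side G Q ι}

/-- an involution over `q` commuting with finitely many commuting involutions that fix `q` -/
theorem Ok.exists_inv_set [Finite G] [Finite Q] (h : S.Ok) {i : ι} {s : Set G} (h2 : ∀ x ∈ s, x * x = 1)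
    (hc : ∀ x ∈ s, ∀ y ∈ s, x * y = y * x) {q : Q} (hs : ∀ x ∈ s, ∃ α, S.Ind i x α ∧ α q = q) (hq : q * q = 1) :
    ∃ e ∈ S.F i, S.π i e = q ∧ e * e = 1 ∧ ∀ x ∈ s, x * e = e * x := by
  have h1 : closure s ≤ (h.rel i).pre (MulAction.stabilizer (MulAut Q) q) := by
    rw [closure_le]
    intro x hx
    obtain ⟨α, hα, hαq⟩ := hs x hx
    exact ⟨α, hαq, hα⟩
  obtain ⟨e, he, heq, he2, hee⟩ := h.exists_inv (i := i) (isPGroup_closure h2 hc) (q := q) (fun t ht => by
    obtain ⟨α, hα, hα'⟩ := h1 ht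
    exact ⟨α, hα', hα⟩) hq
  exact ⟨e, he, heq, he2, fun x hx => hee x (subset_closure hx)⟩

end Side

variable {S S' : Side G Q ι}

/-- an adjacent involution acts on each component of the other side as an involution of `P` -/
theorem exists_act [Finite G] (hP : Pair S S') (T : TFacts Q P) [Nontrivial ι] {i : ι} {v : G} (A : Adj S S' i v)
    (j : ι) : ∃ β, S'.Ind j v β ∧ β ∈ P ∧ β * β = 1 ∧ β ≠ 1 := by
  have := T.fin
  obtain ⟨l, hl⟩ := exists_ne i
  obtain ⟨β, hβ⟩ := hP.ok'.exists_ind (nrm hP T A j)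
  exact ⟨β, hβ, ind_mem hP T A hβ, hP.ok'.ind_sq hβ A.sq, ind_ne_one hP hl A hβ⟩

/-- the centralizer of an adjacent involution is in `H` -/
theorem Adj.cent (hP : Pair S S') [Nontrivial ι] {i : ι} {v : G} (A : Adj S S' i v) {c : G} (hc : v * c = c * v) :
    c ∈ S.H := by
  obtain ⟨l, hl⟩ := exists_ne i
  exact hP.ok.t1' (hP.ok.ind_other hl A.mem) A.sq A.ne hc.symm

theorem ne_one_of_ind {i : ι} (h : S.Ok) {y : G} {α : MulAut Q} (hy : S.Ind i y α) (hα : α ≠ 1) : y ≠ 1 := by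
  rintro rfl
  exact hα (h.ind_uniq hy Side.Ind.one)

/-- an element trivial on a component of both sides is trivial -/
theorem no_triv (hP : Pair S S') {i j m : ι} {y : G} {δ : MulAut Q} (h1 : S.Ind i y 1) (h2 : S'.Ind j y 1)
    (hy2 : y * y = 1) (h3 : S'.Ind m y δ) (hδ : δ ≠ 1) : False :=
  ne_one_of_ind hP.ok' h3 hδ (hP.disj i j y h1 h2 hy2)

theorem sq_mul {a b : G} (ha : a * a = 1) (hb : b * b = 1) (hab : a * b = b * a) : (a * b) * (a * b) = 1 := by
  calc (a * b) * (a * b) = a * (b * a) * b := by group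
    _ = a * (a * b) * b := by rw [hab]
    _ = (a * a) * (b * b) := by group
    _ = 1 := by rw [ha, hb, one_mul]

/-- three components: an adjacent involution acts as an outer automorphism -/
theorem outer_three [Finite G] (hP : Pair S S') (T : TFacts Q P) [Nontrivial ι] {j k m : ι} (hjk : j ≠ k) (hjm : j ≠ m)
    (hkm : k ≠ m) {i : ι} {v : G} (A : Adj S S' i v) {β : MulAut Q} (hβ : S'.Ind j v β) (q : Q) :
    β ≠ MulAut.conj q := by
  rintro rfl
  have := T.fin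
  have hok := hP.ok
  have hok' := hP.ok'
  obtain ⟨l, hl⟩ := exists_ne i
  have hβ2 := hok'.ind_sq hβ A.sq
  have hβ1 := ind_ne_one hP hl A hβ
  have hq2 : q * q = 1 := T.conj_sq.mp hβ2
  have hq1 : q ≠ 1 := by
    rintro rfl
    exact hβ1 (map_one _)
  obtain ⟨f, hf2, hf1, hfq, hqf⟩ := T.four q hq2 hq1
  -- the action on `F' k`
  obtain ⟨γ, hγ, hγP, hγ2, hγ1⟩ := exists_act hP T A k
  obtain ⟨r, hr2, hr1, hrγ⟩ := T.exists_fixed hγP hγ2 hγ1
  obtain ⟨e1, he1, he1q, he12, hc1⟩ := hok'.exists_inv_set (i := j) (s := {v}) (q := q)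
    (by rintro x rfl; exact A.sq) (by rintro x rfl y rfl; rfl)
    (by rintro x rfl; exact ⟨_, hβ, by rw [MulAut.conj_apply, mul_inv_cancel_right]⟩) hq2
  have hv1 : v * e1 = e1 * v := hc1 v rfl
  have hi1 : S'.Ind j e1 (MulAut.conj q) := by
    have := hok'.ind_self he1
    rwa [he1q] at this
  obtain ⟨e2, he2, he2f, he22, hc2⟩ := hok'.exists_inv_set (i := j) (s := {v, e1}) (q := f)
    (by rintro x (rfl | rfl); exacts [A.sq, he12])
    (by rintro x (rfl | rfl) y (rfl | rfl); exacts [rfl, hv1, hv1.symm, rfl])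
    (by
      rintro x (rfl | rfl)
      · exact ⟨_, hβ, by rw [MulAut.conj_apply, hqf, mul_inv_cancel_right]⟩
      · exact ⟨_, hi1, by rw [MulAut.conj_apply, hqf, mul_inv_cancel_right]⟩) hf2
  have hv2 : v * e2 = e2 * v := hc2 v (Or.inl rfl)
  have h12 : e1 * e2 = e2 * e1 := hc2 e1 (Or.inr rfl)
  obtain ⟨e3, he3, he3r, he32, hc3⟩ := hok'.exists_inv_set (i := k) (s := {v, e1, e2}) (q := r)
    (by rintro x (rfl | rfl | rfl); exacts [A.sq, he12, he22])
    (by rintro x (rfl | rfl | rfl) y (rfl | rfl | rfl)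
        exacts [rfl, hv1, hv2, hv1.symm, rfl, h12, hv2.symm, h12.symm, rfl])
    (by
      rintro x (rfl | rfl | rfl)
      · exact ⟨_, hγ, hrγ⟩
      · exact ⟨1, hok'.ind_other (Ne.symm hjk) he1, rfl⟩
      · exact ⟨1, hok'.ind_other (Ne.symm hjk) he2, rfl⟩) hr2
  have hv3 : v * e3 = e3 * v := hc3 v (Or.inl rfl)
  have h13 : e1 * e3 = e3 * e1 := hc3 e1 (Or.inr (Or.inl rfl))
  have h23 : e2 * e3 = e3 * e2 := hc3 e2 (Or.inr (Or.inr rfl))
  -- the actions on the components of the primed side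
  have hj1 := hi1
  have hj2 : S'.Ind j e2 (MulAut.conj f) := by
    have := hok'.ind_self he2
    rwa [he2f] at this
  have hj3 : S'.Ind j e3 1 := hok'.ind_other hjk he3
  have hk3 : S'.Ind k e3 (MulAut.conj r) := by
    have := hok'.ind_self he3
    rwa [he3r] at this
  have hm1 : S'.Ind m e1 1 := hok'.ind_other (Ne.symm hjm) he1
  have hm2 : S'.Ind m e2 1 := hok'.ind_other (Ne.symm hjm) he2
  have hm3 : S'.Ind m e3 1 := hok'.ind_other (Ne.symm hkm) he3
  have hne1 : e1 ≠ 1 := ne_one_of_ind hok' hj1 (T.conj_ne_one hq1)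
  have hne2 : e2 ≠ 1 := ne_one_of_ind hok' hj2 (T.conj_ne_one hf1)
  have hne3 : e3 ≠ 1 := ne_one_of_ind hok' hk3 (T.conj_ne_one hr1)
  have A1 : Adj S' S j e1 := ⟨he1, A.cent hP hv1, he12, hne1⟩
  have A2 : Adj S' S j e2 := ⟨he2, A.cent hP hv2, he22, hne2⟩
  have A3 : Adj S' S k e3 := ⟨he3, A.cent hP hv3, he32, hne3⟩
  obtain ⟨α1, ha1, hP1, hs1, hn1⟩ := exists_act hP.symm T A1 i
  obtain ⟨α2, ha2, hP2, hs2, hn2⟩ := exists_act hP.symm T A2 i
  obtain ⟨α3, ha3, hP3, hs3, hn3⟩ := exists_act hP.symm T A3 i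
  have hqf1 : q * f ≠ 1 := by
    intro h
    apply hfq
    calc f = (q * q) * f := by rw [hq2, one_mul]
      _ = q * (q * f) := by group
      _ = q := by rw [h, mul_one]
  rcases T.rank α1 hP1 α2 hP2 α3 hP3 hs1 hs2 hs3 (hok.ind_comm ha1 ha2 h12) (hok.ind_comm ha1 ha3 h13)
    (hok.ind_comm ha2 ha3 h23) with h | h | h | h | h | h | h
  · exact hn1 h
  · exact hn2 h
  · exact hn3 h
  · have h1 := ha1.mul ha2
    rw [h] at h1
    have h2 := hm1.mul hm2
    rw [one_mul] at h2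
    have h3 := hj1.mul hj2
    rw [← map_mul] at h3
    exact no_triv hP h1 h2 (sq_mul he12 he22 h12) h3 (T.conj_ne_one hqf1)
  · have h1 := ha1.mul ha3
    rw [h] at h1
    have h2 := hm1.mul hm3
    rw [one_mul] at h2
    have h3 := hj1.mul hj3
    rw [mul_one] at h3
    exact no_triv hP h1 h2 (sq_mul he12 he32 h13) h3 (T.conj_ne_one hq1)
  · have h1 := ha2.mul ha3
    rw [h] at h1
    have h2 := hm2.mul hm3
    rw [one_mul] at h2
    have h3 := hj2.mul hj3
    rw [mul_one] at h3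
    exact no_triv hP h1 h2 (sq_mul he22 he32 h23) h3 (T.conj_ne_one hf1)
  · have h1 := (ha1.mul ha2).mul ha3
    rw [h] at h1
    have h2 := (hm1.mul hm2).mul hm3
    rw [one_mul, one_mul] at h2
    have h3 := (hj1.mul hj2).mul hj3
    rw [mul_one, ← map_mul] at h3
    have h4 : (e1 * e2) * e3 = e3 * (e1 * e2) := by
      rw [mul_assoc, h23, ← mul_assoc, h13, mul_assoc]
    exact no_triv hP h1 h2 (sq_mul (sq_mul he12 he22 h12) he32 h4) h3 (T.conj_ne_one hqf1)

/-- at least three components -/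
theorem noAdj_three [Finite G] (hP : Pair S S') (T : TFacts Q P) [Nontrivial ι] {j k m : ι} (hjk : j ≠ k) (hjm : j ≠ m)
    (hkm : k ≠ m) {i : ι} {v : G} (A : Adj S S' i v) : False := by
  have := T.fin
  have hok := hP.ok
  have hok' := hP.ok'
  obtain ⟨β1, hb1, hbP1, hbs1, hbn1⟩ := exists_act hP T A j
  obtain ⟨β2, hb2, hbP2, hbs2, hbn2⟩ := exists_act hP T A k
  obtain ⟨β3, hb3, hbP3, hbs3, hbn3⟩ := exists_act hP T A m
  obtain ⟨r1, hr12, hr11, hr1⟩ := T.exists_fixed hbP1 hbs1 hbn1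
  obtain ⟨r2, hr22, hr21, hr2⟩ := T.exists_fixed hbP2 hbs2 hbn2
  obtain ⟨r3, hr32, hr31, hr3⟩ := T.exists_fixed hbP3 hbs3 hbn3
  obtain ⟨e1, he1, he1q, he12, hc1⟩ := hok'.exists_inv_set (i := j) (s := {v}) (q := r1)
    (by rintro x rfl; exact A.sq) (by rintro x rfl y rfl; rfl)
    (by rintro x rfl; exact ⟨_, hb1, hr1⟩) hr12
  have hv1 : v * e1 = e1 * v := hc1 v rfl
  obtain ⟨e2, he2, he2q, he22, hc2⟩ := hok'.exists_inv_set (i := k) (s := {v, e1}) (q := r2)
    (by rintro x (rfl | rfl); exacts [A.sq, he12])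
    (by rintro x (rfl | rfl) y (rfl | rfl); exacts [rfl, hv1, hv1.symm, rfl])
    (by
      rintro x (rfl | rfl)
      · exact ⟨_, hb2, hr2⟩
      · exact ⟨1, hok'.ind_other (Ne.symm hjk) he1, rfl⟩) hr22
  have hv2 : v * e2 = e2 * v := hc2 v (Or.inl rfl)
  have h12 : e1 * e2 = e2 * e1 := hc2 e1 (Or.inr rfl)
  obtain ⟨e3, he3, he3q, he32, hc3⟩ := hok'.exists_inv_set (i := m) (s := {v, e1, e2}) (q := r3)
    (by rintro x (rfl | rfl | rfl); exacts [A.sq, he12, he22])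
    (by rintro x (rfl | rfl | rfl) y (rfl | rfl | rfl)
        exacts [rfl, hv1, hv2, hv1.symm, rfl, h12, hv2.symm, h12.symm, rfl])
    (by
      rintro x (rfl | rfl | rfl)
      · exact ⟨_, hb3, hr3⟩
      · exact ⟨1, hok'.ind_other (Ne.symm hjm) he1, rfl⟩
      · exact ⟨1, hok'.ind_other (Ne.symm hkm) he2, rfl⟩) hr32
  have hv3 : v * e3 = e3 * v := hc3 v (Or.inl rfl)
  have h13 : e1 * e3 = e3 * e1 := hc3 e1 (Or.inr (Or.inl rfl))
  have h23 : e2 * e3 = e3 * e2 := hc3 e2 (Or.inr (Or.inr rfl))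
  have hs : ∀ {a : ι} {e : G} {r : Q}, e ∈ S'.F a → S'.π a e = r → S'.Ind a e (MulAut.conj r) := by
    rintro a e _ h rfl
    exact hok'.ind_self h
  have hj1 := hs he1 he1q
  have hk2 := hs he2 he2q
  have hm3 := hs he3 he3q
  have hj2 : S'.Ind j e2 1 := hok'.ind_other hjk he2
  have hj3 : S'.Ind j e3 1 := hok'.ind_other hjm he3
  have hk1 : S'.Ind k e1 1 := hok'.ind_other (Ne.symm hjk) he1
  have hk3 : S'.Ind k e3 1 := hok'.ind_other hkm he3
  have hm1 : S'.Ind m e1 1 := hok'.ind_other (Ne.symm hjm) he1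
  have hm2 : S'.Ind m e2 1 := hok'.ind_other (Ne.symm hkm) he2
  have A1 : Adj S' S j e1 := ⟨he1, A.cent hP hv1, he12, ne_one_of_ind hok' hj1 (T.conj_ne_one hr11)⟩
  have A2 : Adj S' S k e2 := ⟨he2, A.cent hP hv2, he22, ne_one_of_ind hok' hk2 (T.conj_ne_one hr21)⟩
  have A3 : Adj S' S m e3 := ⟨he3, A.cent hP hv3, he32, ne_one_of_ind hok' hm3 (T.conj_ne_one hr31)⟩
  obtain ⟨α1, ha1, hP1, hs1, hn1⟩ := exists_act hP.symm T A1 i
  obtain ⟨α2, ha2, hP2, hs2, hn2⟩ := exists_act hP.symm T A2 i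
  obtain ⟨α3, ha3, hP3, hs3, hn3⟩ := exists_act hP.symm T A3 i
  -- three components, one of them `i`
  obtain ⟨i2, i3, hi2, hi3, hi23⟩ : ∃ i2 i3, i ≠ i2 ∧ i ≠ i3 ∧ i2 ≠ i3 := by
    by_cases h1 : i = j
    · subst h1
      exact ⟨k, m, hjk, hjm, hkm⟩
    · by_cases h2 : i = k
      · subst h2
        exact ⟨j, m, h1, hkm, hjm⟩
      · exact ⟨j, k, h1, h2, hjk⟩
  have ho1 := outer_three hP.symm T hi2 hi3 hi23 A1 ha1
  have ho2 := outer_three hP.symm T hi2 hi3 hi23 A2 ha2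
  have ho3 := outer_three hP.symm T hi2 hi3 hi23 A3 ha3
  rcases T.rank α1 hP1 α2 hP2 α3 hP3 hs1 hs2 hs3 (hok.ind_comm ha1 ha2 h12) (hok.ind_comm ha1 ha3 h13)
    (hok.ind_comm ha2 ha3 h23) with h | h | h | h | h | h | h
  · exact hn1 h
  · exact hn2 h
  · exact hn3 h
  · have h1 := ha1.mul ha2
    rw [h] at h1
    have h2 := hm1.mul hm2
    rw [one_mul] at h2
    have h3 := hj1.mul hj2
    rw [mul_one] at h3
    exact no_triv hP h1 h2 (sq_mul he12 he22 h12) h3 (T.conj_ne_one hr11)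
  · have h1 := ha1.mul ha3
    rw [h] at h1
    have h2 := hk1.mul hk3
    rw [one_mul] at h2
    have h3 := hj1.mul hj3
    rw [mul_one] at h3
    exact no_triv hP h1 h2 (sq_mul he12 he32 h13) h3 (T.conj_ne_one hr11)
  · have h1 := ha2.mul ha3
    rw [h] at h1
    have h2 := hj2.mul hj3
    rw [one_mul] at h2
    have h3 := hk2.mul hk3
    rw [mul_one] at h3
    exact no_triv hP h1 h2 (sq_mul he22 he32 h23) h3 (T.conj_ne_one hr21)
  · obtain ⟨q, hq⟩ := T.outer α1 hP1 α2 hP2 ho1 ho2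
    apply ho3 q⁻¹
    rw [map_inv, ← hq]
    exact eq_inv_of_mul_eq_one_right h

/-! ### two components -/

section two

variable {j k : ι}

/-- closing lemma -/
theorem closing [Finite G] (hP : Pair S S') (T : TFacts Q P) (hjk : j ≠ k) (hall : ∀ l, l = j ∨ l = k)
    (hX : hP.ok'.img j S.H = ⊤) {e : G} (Ae : ∀ i, ∃ α, S.Ind i e α ∧ α ∈ P ∧ α * α = 1 ∧ α ≠ 1)
    (he : e ∈ S'.F k) (he2 : e * e = 1) : False := by
  have := T.fin
  have hok := hP.ok
  have hok' := hP.ok'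
  have heH : e ∈ S.H := (Ae j).choose_spec.1.1
  have hcov : (⊤ : Subgroup Q).map (MulAut.conj : Q →* MulAut Q) ≤
      (hok'.rel j).im ((S'.F j ⊓ S.H) ⊓ centralizer ({e} : Set G)) := by
    rintro _ ⟨q, -, rfl⟩
    obtain ⟨x, hx, hxH, hxq⟩ : q ∈ hok'.img j S.H := by rw [hX]; trivial
    have hej : S'.Ind j e 1 := hok'.ind_other hjk he
    have hodd : Odd (Nat.card ↥(S'.W ⊓ S.H)) :=
      hok'.odd.of_dvd_nat (Subgroup.card_dvd_of_le inf_le_left)
    have hxe : x⁻¹ * (e * x * e⁻¹) ∈ S'.W ⊓ S.H := by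
      refine ⟨(hok'.eq_iff hx (hej.2 x hx).1).mp ?_, ?_⟩
      · rw [(hej.2 x hx).2]
        rfl
      · exact S.H.mul_mem (S.H.inv_mem hxH) (S.H.mul_mem (S.H.mul_mem heH hxH) (S.H.inv_mem heH))
    obtain ⟨w, hw, hww⟩ := exists_fix_coset (x := x) hodd (Cfsg.Agent.UGT.SL.two_isPGroup he2)
      (fun t ht w hw => by
        rcases mem_zpowers_inv he2 ht with rfl | rfl
        · simpa using hw
        · exact ⟨hok'.nW t hej.1 w hw.1, S.H.mul_mem (S.H.mul_mem heH hw.2) (S.H.inv_mem heH)⟩) (fun t ht => by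
        rcases mem_zpowers_inv he2 ht with rfl | rfl
        · have h1 : x⁻¹ * (1 * x * 1⁻¹) = 1 := by group
          rw [h1]
          exact one_mem _
        · exact hxe)
    refine ⟨x * w, ⟨⟨(S'.F j).mul_mem hx (hok'.WF j hw.1), S.H.mul_mem hxH hw.2⟩, ?_⟩, ?_⟩
    · exact mem_centralizer_singleton_iff.mpr (hww e (mem_zpowers e)).symm
    · have h1 := (hok'.ind_self hx).mul (hok'.ind_W (i := j) hw.1)
      rwa [mul_one, hxq] at h1
  have hperf : (⊤ : Subgroup Q).map (MulAut.conj : Q →* MulAut Q) ≤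
      ⁅(⊤ : Subgroup Q).map (MulAut.conj : Q →* MulAut Q), (⊤ : Subgroup Q).map (MulAut.conj : Q →* MulAut Q)⁆ := by
    rw [← map_commutator, T.perfect]
  obtain ⟨J, hJA, hJp, hJcov⟩ := (hok'.rel j).exists_perfect hcov hperf
  obtain ⟨α, hα, hαP, hα2, hα1⟩ := Ae j
  have hN : ∀ a ∈ J, S.Nrm j a := by
    have h1 : ⁅J, J⁆ ≤ S.N j := by
      rw [commutator_le]
      intro a ha b hb
      exact hok.comm_nrm T hjk hall (hJA ha).1.2 (hJA hb).1.2
    exact fun a ha => h1 (hJp ha)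
  have htriv := hok.perfect_trivial T hJp hN hα hαP hα2 hα1
    (fun a ha => mem_centralizer_singleton_iff.mp (hJA ha).2)
  obtain ⟨q, hq⟩ := hP.cov j j
  obtain ⟨a, ha, haq⟩ := hJcov ⟨q, mem_top q, rfl⟩
  refine hq a (hJA ha).1.1 ?_ (htriv a ha)
  exact T.conj_inj (hok'.ind_uniq (hok'.ind_self (hJA ha).1.1) haq)

/-- two components: an adjacent involution acts as an outer automorphism -/
theorem outer_two [Finite G] (hP : Pair S S') (T : TFacts Q P) [Nontrivial ι] (hjk : j ≠ k)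
    (hall : ∀ l, l = j ∨ l = k) {i : ι} {v : G} (A : Adj S S' i v) {β : MulAut Q} (hβ : S'.Ind j v β) (q : Q) :
    β ≠ MulAut.conj q := by
  rintro rfl
  have := T.fin
  have hok := hP.ok
  have hok' := hP.ok'
  obtain ⟨l, hl⟩ := exists_ne i
  have hβ2 := hok'.ind_sq hβ A.sq
  have hβ1 := ind_ne_one hP hl A hβ
  have hq2 : q * q = 1 := T.conj_sq.mp hβ2
  have hq1 : q ≠ 1 := by
    rintro rfl
    exact hβ1 (map_one _)
  obtain ⟨f, hf2, hf1, hfq, hqf⟩ := T.four q hq2 hq1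
  obtain ⟨γ, hγ, hγP, hγ2, hγ1⟩ := exists_act hP T A k
  -- an involution `r` of `Q`, fixed by `γ`, such that `Fix γ` and `C(r)` generate
  obtain ⟨r, hr2, hr1, hrγ, hgen⟩ : ∃ r : Q, r * r = 1 ∧ r ≠ 1 ∧ γ r = r ∧ ∀ X : Subgroup Q,
      (∀ x, γ x = x → x ∈ X) → (∀ x, x * r = r * x → x ∈ X) → X = ⊤ := by
    by_cases h : ∃ p, γ = MulAut.conj p
    · obtain ⟨p, rfl⟩ := h
      have hp2 : p * p = 1 := T.conj_sq.mp hγ2
      have hp1 : p ≠ 1 := by
        rintro rfl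
        exact hγ1 (map_one _)
      obtain ⟨r, hr2, hr1, hrp, hpr⟩ := T.four p hp2 hp1
      refine ⟨r, hr2, hr1, by rw [MulAut.conj_apply, hpr, mul_inv_cancel_right], fun X h1 h2 => ?_⟩
      refine T.genII p r hp2 hp1 hr2 hr1 hrp hpr X (fun x hx => h1 x ?_) h2
      rw [MulAut.conj_apply, ← hx, mul_inv_cancel_right]
    · push Not at h
      obtain ⟨r, hr2, hr1, hrγ⟩ := T.fix γ hγP hγ2 h
      exact ⟨r, hr2, hr1, hrγ, T.genOI γ hγP hγ2 h r hr2 hr1 hrγ⟩
  obtain ⟨e1, he1, he1q, he12, hc1⟩ := hok'.exists_inv_set (i := j) (s := {v}) (q := q)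
    (by rintro x rfl; exact A.sq) (by rintro x rfl y rfl; rfl)
    (by rintro x rfl; exact ⟨_, hβ, by rw [MulAut.conj_apply, mul_inv_cancel_right]⟩) hq2
  have hv1 : v * e1 = e1 * v := hc1 v rfl
  have hj1 : S'.Ind j e1 (MulAut.conj q) := by
    have := hok'.ind_self he1
    rwa [he1q] at this
  obtain ⟨e2, he2, he2f, he22, hc2⟩ := hok'.exists_inv_set (i := j) (s := {v, e1}) (q := f)
    (by rintro x (rfl | rfl); exacts [A.sq, he12])
    (by rintro x (rfl | rfl) y (rfl | rfl); exacts [rfl, hv1, hv1.symm, rfl])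
    (by
      rintro x (rfl | rfl)
      · exact ⟨_, hβ, by rw [MulAut.conj_apply, hqf, mul_inv_cancel_right]⟩
      · exact ⟨_, hj1, by rw [MulAut.conj_apply, hqf, mul_inv_cancel_right]⟩) hf2
  have hv2 : v * e2 = e2 * v := hc2 v (Or.inl rfl)
  have h12 : e1 * e2 = e2 * e1 := hc2 e1 (Or.inr rfl)
  obtain ⟨e3, he3, he3r, he32, hc3⟩ := hok'.exists_inv_set (i := k) (s := {v, e1, e2}) (q := r)
    (by rintro x (rfl | rfl | rfl); exacts [A.sq, he12, he22])
    (by rintro x (rfl | rfl | rfl) y (rfl | rfl | rfl)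
        exacts [rfl, hv1, hv2, hv1.symm, rfl, h12, hv2.symm, h12.symm, rfl])
    (by
      rintro x (rfl | rfl | rfl)
      · exact ⟨_, hγ, hrγ⟩
      · exact ⟨1, hok'.ind_other (Ne.symm hjk) he1, rfl⟩
      · exact ⟨1, hok'.ind_other (Ne.symm hjk) he2, rfl⟩) hr2
  have hv3 : v * e3 = e3 * v := hc3 v (Or.inl rfl)
  have h13 : e1 * e3 = e3 * e1 := hc3 e1 (Or.inr (Or.inl rfl))
  have h23 : e2 * e3 = e3 * e2 := hc3 e2 (Or.inr (Or.inr rfl))
  have hj2 : S'.Ind j e2 (MulAut.conj f) := by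
    have := hok'.ind_self he2
    rwa [he2f] at this
  have hj3 : S'.Ind j e3 1 := hok'.ind_other hjk he3
  have hk1 : S'.Ind k e1 1 := hok'.ind_other (Ne.symm hjk) he1
  have hk2 : S'.Ind k e2 1 := hok'.ind_other (Ne.symm hjk) he2
  have hk3 : S'.Ind k e3 (MulAut.conj r) := by
    have := hok'.ind_self he3
    rwa [he3r] at this
  have hrr := T.conj_ne_one hr1
  have A1 : Adj S' S j e1 := ⟨he1, A.cent hP hv1, he12, ne_one_of_ind hok' hj1 (T.conj_ne_one hq1)⟩
  have A2 : Adj S' S j e2 := ⟨he2, A.cent hP hv2, he22, ne_one_of_ind hok' hj2 (T.conj_ne_one hf1)⟩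
  have A3 : Adj S' S k e3 := ⟨he3, A.cent hP hv3, he32, ne_one_of_ind hok' hk3 hrr⟩
  obtain ⟨α1, ha1, hP1, hs1, hn1⟩ := exists_act hP.symm T A1 i
  obtain ⟨α2, ha2, hP2, hs2, hn2⟩ := exists_act hP.symm T A2 i
  obtain ⟨α3, ha3, hP3, hs3, hn3⟩ := exists_act hP.symm T A3 i
  have hqf1 : q * f ≠ 1 := by
    intro h
    apply hfq
    calc f = (q * q) * f := by rw [hq2, one_mul]
      _ = q * (q * f) := by group
      _ = q := by rw [h, mul_one]
  -- a product `y` acting trivially on `F i`, and as `r` on `F' k`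
  have key : ∀ y : G, S.Ind i y 1 → S'.Ind k y (MulAut.conj r) → y * y = 1 → False := by
    intro y hy hyk hy2
    have hy1 : y ≠ 1 := ne_one_of_ind hok' hyk hrr
    have hX : hok'.img k S.H = ⊤ := by
      apply hgen
      · intro x hx
        exact hok'.fix_le hγ A.sq (fun c hc => A.cent hP hc.symm) hx
      · intro x hx
        apply hok'.fix_le hyk hy2 (fun c hc => hok.t1' hy hy2 hy1 hc)
        rw [MulAut.conj_apply, ← hx, mul_inv_cancel_right]
    exact closing hP T (Ne.symm hjk) (fun l => (hall l).symm) hX (fun i => exists_act hP.symm T A1 i) he1 he12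
  have h123 : (e1 * e2) * e3 = e3 * (e1 * e2) := by
    rw [mul_assoc, h23, ← mul_assoc, h13, mul_assoc]
  rcases T.rank α1 hP1 α2 hP2 α3 hP3 hs1 hs2 hs3 (hok.ind_comm ha1 ha2 h12) (hok.ind_comm ha1 ha3 h13)
    (hok.ind_comm ha2 ha3 h23) with h | h | h | h | h | h | h
  · exact hn1 h
  · exact hn2 h
  · exact hn3 h
  · have h1 := ha1.mul ha2
    rw [h] at h1
    have h2 := hk1.mul hk2
    rw [one_mul] at h2
    have h3 := hj1.mul hj2
    rw [← map_mul] at h3
    exact no_triv hP h1 h2 (sq_mul he12 he22 h12) h3 (T.conj_ne_one hqf1)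
  · have h1 := ha1.mul ha3
    rw [h] at h1
    have h2 := hk1.mul hk3
    rw [one_mul] at h2
    exact key _ h1 h2 (sq_mul he12 he32 h13)
  · have h1 := ha2.mul ha3
    rw [h] at h1
    have h2 := hk2.mul hk3
    rw [one_mul] at h2
    exact key _ h1 h2 (sq_mul he22 he32 h23)
  · have h1 := (ha1.mul ha2).mul ha3
    rw [h] at h1
    have h2 := (hk1.mul hk2).mul hk3
    rw [one_mul, one_mul] at h2
    exact key _ h1 h2 (sq_mul (sq_mul he12 he22 h12) he32 h123)

/-- two components -/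
theorem noAdj_two [Finite G] (hP : Pair S S') (T : TFacts Q P) [Nontrivial ι] (hjk : j ≠ k)
    (hall : ∀ l, l = j ∨ l = k) {i : ι} {v : G} (A : Adj S S' i v) : False := by
  have := T.fin
  have hok := hP.ok
  have hok' := hP.ok'
  obtain ⟨l, hl⟩ := exists_ne i
  obtain ⟨β1, hb1, hbP1, hbs1, hbn1⟩ := exists_act hP T A j
  obtain ⟨β2, hb2, hbP2, hbs2, hbn2⟩ := exists_act hP T A k
  have hbo1 := outer_two hP T hjk hall A hb1
  have hbo2 := outer_two hP T (Ne.symm hjk) (fun l => (hall l).symm) A hb2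
  obtain ⟨r1, hr12, hr11, hr1⟩ := T.fix β1 hbP1 hbs1 hbo1
  obtain ⟨r2, hr22, hr21, hr2⟩ := T.fix β2 hbP2 hbs2 hbo2
  obtain ⟨e1, he1, he1q, he12, hc1⟩ := hok'.exists_inv_set (i := j) (s := {v}) (q := r1)
    (by rintro x rfl; exact A.sq) (by rintro x rfl y rfl; rfl)
    (by rintro x rfl; exact ⟨_, hb1, hr1⟩) hr12
  have hv1 : v * e1 = e1 * v := hc1 v rfl
  obtain ⟨e2, he2, he2q, he22, hc2⟩ := hok'.exists_inv_set (i := k) (s := {v, e1}) (q := r2)
    (by rintro x (rfl | rfl); exacts [A.sq, he12])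
    (by rintro x (rfl | rfl) y (rfl | rfl); exacts [rfl, hv1, hv1.symm, rfl])
    (by
      rintro x (rfl | rfl)
      · exact ⟨_, hb2, hr2⟩
      · exact ⟨1, hok'.ind_other (Ne.symm hjk) he1, rfl⟩) hr22
  have hv2 : v * e2 = e2 * v := hc2 v (Or.inl rfl)
  have h12 : e1 * e2 = e2 * e1 := hc2 e1 (Or.inr rfl)
  have hj1 : S'.Ind j e1 (MulAut.conj r1) := by
    have := hok'.ind_self he1
    rwa [he1q] at this
  have hk2 : S'.Ind k e2 (MulAut.conj r2) := by
    have := hok'.ind_self he2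
    rwa [he2q] at this
  have hj2 : S'.Ind j e2 1 := hok'.ind_other hjk he2
  have hk1 : S'.Ind k e1 1 := hok'.ind_other (Ne.symm hjk) he1
  have A1 : Adj S' S j e1 := ⟨he1, A.cent hP hv1, he12, ne_one_of_ind hok' hj1 (T.conj_ne_one hr11)⟩
  have A2 : Adj S' S k e2 := ⟨he2, A.cent hP hv2, he22, ne_one_of_ind hok' hk2 (T.conj_ne_one hr21)⟩
  obtain ⟨α1, ha1, hP1, hs1, hn1⟩ := exists_act hP.symm T A1 i
  obtain ⟨α2, ha2, hP2, hs2, hn2⟩ := exists_act hP.symm T A2 i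
  -- `i` and the other index
  obtain ⟨i', hii', hall'⟩ : ∃ i', i ≠ i' ∧ ∀ l, l = i ∨ l = i' := by
    rcases hall i with rfl | rfl
    · exact ⟨k, hjk, hall⟩
    · exact ⟨j, Ne.symm hjk, fun l => (hall l).symm⟩
  have ho1 := outer_two hP.symm T hii' hall' A1 ha1
  have ho2 := outer_two hP.symm T hii' hall' A2 ha2
  have hv0 := hok.ind_self A.mem
  have hvs := hok.ind_sq hv0 A.sq
  have hvn : (MulAut.conj (S.π i v) : MulAut Q) ≠ 1 := by
    apply T.conj_ne_one
    intro h2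
    rw [hok.ker i v A.mem] at h2
    exact A.ne (hok.one_of_W h2 A.sq)
  rcases T.rank _ (T.inn (S.π i v)) α1 hP1 α2 hP2 hvs hs1 hs2 (hok.ind_comm hv0 ha1 hv1) (hok.ind_comm hv0 ha2 hv2)
    (hok.ind_comm ha1 ha2 h12) with h | h | h | h | h | h | h
  · exact hvn h
  · exact hn1 h
  · exact hn2 h
  · apply ho1 (S.π i v)⁻¹
    rw [map_inv]
    exact eq_inv_of_mul_eq_one_right h
  · apply ho2 (S.π i v)⁻¹
    rw [map_inv]
    exact eq_inv_of_mul_eq_one_right h
  · -- `e1 * e2` is trivial on `F i`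
    have h1 := ha1.mul ha2
    rw [h] at h1
    have h2 := hk1.mul hk2
    rw [one_mul] at h2
    have hs := sq_mul he12 he22 h12
    have hne := ne_one_of_ind hok' h2 (T.conj_ne_one hr21)
    have hX : hok'.img k S.H = ⊤ := by
      apply T.genOI β2 hbP2 hbs2 hbo2 r2 hr22 hr21 hr2
      · intro x hx
        exact hok'.fix_le hb2 A.sq (fun c hc => A.cent hP hc.symm) hx
      · intro x hx
        apply hok'.fix_le h2 hs (fun c hc => hok.t1' h1 hs hne hc)
        rw [MulAut.conj_apply, ← hx, mul_inv_cancel_right]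
    exact closing hP T (Ne.symm hjk) (fun l => (hall l).symm) hX (fun i => exists_act hP.symm T A1 i) he1 he12
  · -- `v * e1 * e2` is trivial on `F i`
    have h1 := (hv0.mul ha1).mul ha2
    rw [h] at h1
    have h2 := (hb1.mul hj1).mul hj2
    rw [mul_one] at h2
    have hc : (v * e1) * e2 = e2 * (v * e1) := by
      rw [mul_assoc, h12, ← mul_assoc, hv2, mul_assoc]
    have hs := sq_mul (sq_mul A.sq he12 hv1) he22 hc
    have hne : v * e1 * e2 ≠ 1 := by
      refine ne_one_of_ind hok' h2 ?_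
      intro h3
      apply hbo1 r1⁻¹
      rw [map_inv]
      exact eq_inv_of_mul_eq_one_left h3
    have hX : hok'.img j S.H = ⊤ := by
      apply T.genOO β1 hbP1 hbs1 hbo1 r1 hr12 hr11 hr1
      · intro x hx
        exact hok'.fix_le hb1 A.sq (fun c hc => A.cent hP hc.symm) hx
      · intro x hx
        apply hok'.fix_le h2 hs (fun c hc => hok.t1' h1 hs hne hc)
        rw [MulAut.mul_apply, MulAut.conj_apply]
        exact hx
    exact closing hP T hjk hall hX (fun i => exists_act hP.symm T A2 i) he2 he22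

end two

/-- **THEOREM T, PIECE 5: no adjacent pair.** -/
theorem noAdj [Finite G] (hP : Pair S S') (T : TFacts Q P) [Nontrivial ι] {i : ι} {v : G} (hv : v ∈ S.F i)
    (hv' : v ∈ S'.H) (hv2 : v * v = 1) : v = 1 := by
  by_contra hv1
  have A : Adj S S' i v := ⟨hv, hv', hv2, hv1⟩
  obtain ⟨l, hl⟩ := exists_ne i
  by_cases h : ∃ m, m ≠ i ∧ m ≠ l
  · obtain ⟨m, hm1, hm2⟩ := h
    exact noAdj_three hP T (Ne.symm hl) (Ne.symm hm1) (Ne.symm hm2) A
  · push Not at h
    refine noAdj_two hP T (Ne.symm hl) (fun m => ?_) A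
    by_cases h1 : m = i
    · exact Or.inl h1
    · exact Or.inr (h m h1)

end Cfsg.Agent.UGT.TT
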