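import Cfsg.Agent.UGT.TT.PGLSolv
import Cfsg.Agent.ClassicalGeometry.SplitTorus
import Cfsg.Agent.GH.L2AutFix
import Cfsg.Agent.S0811

/-!
# Generation of `L ≅ PSL(2,F)` by the centralizers of two involutions of `PGL(2,F) - PSL(2,F)`

`genOO`: `|F| ≥ 11` odd, `α ∈ PGL(2,F) - PSL(2,F)` an involution, `e` an involution of `L` fixed by `α`: the fixed points
of `α` and of `α e` generate `L`.

* `q ≡ 1 mod 4`: the fixed points of `α` form a maximal subgroup, dihedral of order `q + 1` (S0811);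
* `q ≡ 3 mod 4`: in a suitable frame `α = conj diag(1,-1)` and the two groups contain the monomial matrices and the
  matrices `[[a,b],[b,a]]`, `a² - b² = 1`.
-/

set_option autoImplicit false

namespace Cfsg.Agent.UGT.TT.GenOO

open Matrix Cfsg.Agent.Lib.SL2Mat Cfsg.Agent.Lib.AutSL2 Cfsg.Agent.Lib.AutSL2Out
open Cfsg.Agent.GH.L2Aut Cfsg.Agent.UGT.SL
open Cfsg.Agent.GH.L2Aut.Rep (conj_comm_iff)

variable {F : Type*} [Field F] {L : Type*} [Group L]

local notation "SL2" => Matrix.SpecialLinearGroup (Fin 2) F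
local notation "M2" => Matrix (Fin 2) (Fin 2) F

section split

open Cfsg.Agent.ClassicalGeometry.SplitTorus

/-- the matrices `[[a,b],[b,a]]` with `a + b = u` -/
def hyp (h2 : (2 : F) ≠ 0) (u : F) (hu : u ≠ 0) : SL2 :=
  ⟨!![(u + u⁻¹) / 2, (u - u⁻¹) / 2; (u - u⁻¹) / 2, (u + u⁻¹) / 2], by
    rw [det_fin_two_of]; field_simp; ring⟩

/-- the computation for `q ≡ 3 mod 4` -/
theorem eq_top_of_hyp [Finite F] (hq : 11 ≤ Nat.card F) (hsq : ¬ IsSquare (-1 : F)) (h2 : (2 : F) ≠ 0)
    (H : Subgroup SL2) (hN : monomial F ≤ H) (hh : ∀ (u : F) (hu : u ≠ 0), hyp h2 u hu ∈ H) : H = ⊤ := by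
  classical
  let _ := Fintype.ofFinite F
  by_contra hH
  have hmon : ∀ (u : F) (hu : u ≠ 0), u ^ 2 ≠ 1 → hyp h2 u hu ∉ monomial F := by
    intro u hu hu1 hm
    rcases hm with ⟨h, -⟩ | ⟨h, -⟩
    · have h3 : (u - u⁻¹) / 2 = 0 := h
      rw [div_eq_zero_iff] at h3
      have h4 : u - u⁻¹ = 0 := h3.resolve_right h2
      apply hu1
      field_simp at h4
      linear_combination h4
    · have h3 : (u + u⁻¹) / 2 = 0 := h
      rw [div_eq_zero_iff] at h3
      have h4 : u + u⁻¹ = 0 := h3.resolve_right h2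
      apply hsq
      refine ⟨u, ?_⟩
      field_simp at h4
      linear_combination (-1 : F) * h4
  have key : ∀ u v : F, u ≠ 0 → v ≠ 0 → u ^ 2 ≠ 1 → v ^ 2 ≠ 1 → v ^ 2 = u ^ 2 ∨ v ^ 2 * u ^ 2 = 1 := by
    intro u v hu hv hu1 hv1
    have h3 := cross_dichotomy hN hH (hh u hu) (hmon u hu hu1) (hh v hv) (hmon v hv hv1)
    have e1 : ∀ (w : F) (hw : w ≠ 0), (hyp h2 w hw) 0 0 = (w + w⁻¹) / 2 := fun _ _ => rfl
    have e2 : ∀ (w : F) (hw : w ≠ 0), (hyp h2 w hw) 1 1 = (w + w⁻¹) / 2 := fun _ _ => rfl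
    rw [e1, e1, e2, e2] at h3
    rcases h3 with h3 | h3
    · have h4 : (v ^ 2 - u ^ 2) * (v ^ 2 * u ^ 2 - 1) = 0 := by
        have h5 : (v + v⁻¹) ^ 2 = (u + u⁻¹) ^ 2 := by
          have h6 : (4 : F) ≠ 0 := by
            have : (4 : F) = 2 * 2 := by norm_num
            rw [this]; exact mul_ne_zero h2 h2
          field_simp at h3 ⊢
          linear_combination h3
        field_simp at h5
        linear_combination h5
      rcases mul_eq_zero.1 h4 with h5 | h5
      · left; linear_combination h5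
      · right; linear_combination h5
    · exfalso
      have h4 : (v + v⁻¹) ^ 2 = -(u - u⁻¹) ^ 2 := by
        field_simp at h3 ⊢
        linear_combination h3
      have h5 : u - u⁻¹ ≠ 0 := by
        intro h
        apply hu1
        field_simp at h
        linear_combination h
      apply hsq
      refine ⟨(v + v⁻¹) / (u - u⁻¹), ?_⟩
      rw [div_mul_div_comm, ← sq, ← sq, h4, neg_div, div_self (pow_ne_zero 2 h5)]
  -- count
  obtain ⟨u, hu⟩ : ∃ u : F, u ∉ ({0, 1, -1} : Finset F) := by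
    by_contra hcon
    push Not at hcon
    have h3 : (Finset.univ : Finset F) ⊆ {0, 1, -1} := fun x _ => hcon x
    have h4 := Finset.card_le_card h3
    have h5 : ({0, 1, -1} : Finset F).card ≤ 3 := Finset.card_le_three
    rw [Finset.card_univ, ← Nat.card_eq_fintype_card] at h4
    omega
  simp only [Finset.mem_insert, Finset.mem_singleton, not_or] at hu
  obtain ⟨hu0, hu1, hu2⟩ := hu
  have hsq1 : ∀ x : F, x ^ 2 = 1 → x = 1 ∨ x = -1 := fun x hx => sq_eq_one_iff.1 hx
  have hne : ∀ x : F, x ≠ 1 → x ≠ -1 → x ^ 2 ≠ 1 := fun x h1 h3 h4 => by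
    rcases hsq1 x h4 with h | h
    · exact h1 h
    · exact h3 h
  have h3 : (Finset.univ : Finset F) ⊆ {0, 1, -1, u, -u, u⁻¹, -u⁻¹} := by
    intro v _
    simp only [Finset.mem_insert, Finset.mem_singleton]
    by_cases hv0 : v = 0
    · exact Or.inl hv0
    by_cases hv1 : v = 1
    · exact Or.inr (Or.inl hv1)
    by_cases hv2 : v = -1
    · exact Or.inr (Or.inr (Or.inl hv2))
    rcases key u v hu0 hv0 (hne u hu1 hu2) (hne v hv1 hv2) with h | h
    · rcases sq_eq_sq_iff_eq_or_eq_neg.1 h with h | h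
      · simp [h]
      · simp [h]
    · have h4 : v ^ 2 = (u⁻¹) ^ 2 := by
        field_simp
        exact h
      rcases sq_eq_sq_iff_eq_or_eq_neg.1 h4 with h | h
      · simp [h]
      · simp [h]
  have h4 := Finset.card_le_card h3
  have h5 : ({0, 1, -1, u, -u, u⁻¹, -u⁻¹} : Finset F).card ≤ 7 := by
    refine (Finset.card_insert_le _ _).trans ?_
    have h6 : ({1, -1, u, -u, u⁻¹, -u⁻¹} : Finset F).card ≤ 6 := Finset.card_le_six
    omega
  rw [Finset.card_univ, ← Nat.card_eq_fintype_card] at h4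
  omega

/-- `diag(1,-1)` -/
noncomputable def dD (F : Type*) [Field F] : GL (Fin 2) F :=
  toGL' !![1, 0; 0, -1] (by rw [det_fin_two_of]; simp)

theorem dD_val : (dD F).1 = !![1, 0; 0, -1] := rfl

/-- the frame for a pair `G, I` with `G² = 1`, `I² = -1`, `I G = - G I` -/
theorem exists_frame (h2 : (2 : F) ≠ 0) {G : M2} (hG : G * G = 1) (htr : G.trace = 0)
    {I : SL2} (hI : I.1 * I.1 = -1) (hIG : I.1 * G = -(G * I.1)) :
    ∃ h : GL (Fin 2) F, h.1 * G = (dD F).1 * h.1 ∧ h.1 * I.1 = (wl F).1 * h.1 := by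
  have hdet : G.det = -1 := by
    have h1 := cayley G
    rw [hG, htr, zero_smul, zero_sub] at h1
    have h3 := congrFun (congrFun h1 0) 0
    simp at h3
    linear_combination h3
  have hns : ∀ c : F, G ≠ c • (1 : M2) := by
    intro c hc
    rw [hc] at hIG
    have h3 : I.1 * (c • (1 : M2)) = c • I.1 := by rw [mul_smul_comm, mul_one]
    have h4 : (c • (1 : M2)) * I.1 = c • I.1 := by rw [smul_mul_assoc, one_mul]
    rw [h3, h4] at hIG
    have h5 : (2 * c) • I.1 = 0 := by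
      rw [two_mul, add_smul]
      nth_rewrite 1 [hIG]
      rw [neg_add_cancel]
    have h6 : c ≠ 0 := by
      rintro rfl
      rw [hc, zero_smul, mul_zero] at hG
      have := congrFun (congrFun hG 0) 0
      simp at this
    have h7 : I.1 = 0 := by
      rcases smul_eq_zero.1 h5 with h | h
      · exact absurd h (mul_ne_zero h2 h6)
      · exact h
    rw [h7, mul_zero] at hI
    have := congrFun (congrFun hI 0) 0
    simp at this
  have hnsD : ∀ c : F, (dD F).1 ≠ c • (1 : M2) := by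
    intro c hc
    rw [dD_val] at hc
    have h3 := congrFun (congrFun hc 0) 0
    have h4 := congrFun (congrFun hc 1) 1
    simp at h3 h4
    apply h2
    linear_combination h3 - h4
  obtain ⟨h, hh⟩ := mat_conj hns hnsD (by rw [htr, dD_val]; simp [Matrix.trace_fin_two])
    (by rw [hdet, dD_val, det_fin_two_of]; ring)
  -- the matrix `J = h I h⁻¹`
  obtain ⟨J, hJ⟩ : ∃ J : SL2, J = conjGL h I := ⟨_, rfl⟩
  have hJ1 : h.1 * I.1 = J.1 * h.1 := of_conjGL_eq hJ.symm
  have hhu : h.1 * h⁻¹.1 = 1 := by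
    have := congrArg Units.val (mul_inv_cancel h)
    exact this
  have hJ2 : J.1 * J.1 = -1 := by
    have h3 : J.1 = h.1 * I.1 * h⁻¹.1 := by
      rw [hJ1, mul_assoc, hhu, mul_one]
    have hhu' : h⁻¹.1 * h.1 = 1 := congrArg Units.val (inv_mul_cancel h)
    calc J.1 * J.1 = h.1 * I.1 * (h⁻¹.1 * h.1) * I.1 * h⁻¹.1 := by rw [h3]; simp only [mul_assoc]
      _ = h.1 * (I.1 * I.1) * h⁻¹.1 := by rw [hhu', mul_one]; simp only [mul_assoc]
      _ = -1 := by rw [hI, mul_neg, mul_one, neg_mul, hhu]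
  have hJD : J.1 * (dD F).1 = -((dD F).1 * J.1) := by
    have h3 : J.1 * (dD F).1 * h.1 = -((dD F).1 * J.1) * h.1 := by
      calc J.1 * (dD F).1 * h.1 = J.1 * (h.1 * G) := by rw [hh, mul_assoc]
        _ = h.1 * (I.1 * G) := by rw [← mul_assoc, ← hJ1, mul_assoc]
        _ = -(h.1 * G * I.1) := by rw [hIG, mul_neg, mul_assoc]
        _ = -((dD F).1 * (h.1 * I.1)) := by rw [hh, mul_assoc]
        _ = -((dD F).1 * J.1) * h.1 := by rw [hJ1, neg_mul, mul_assoc]
    calc J.1 * (dD F).1 = J.1 * (dD F).1 * (h.1 * h⁻¹.1) := by rw [hhu, mul_one]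
      _ = J.1 * (dD F).1 * h.1 * h⁻¹.1 := by rw [mul_assoc (J.1 * (dD F).1)]
      _ = -((dD F).1 * J.1) * h.1 * h⁻¹.1 := by rw [h3]
      _ = _ := by rw [mul_assoc, hhu, mul_one]
  have e00 := congrFun (congrFun hJD 0) 0
  have e11 := congrFun (congrFun hJD 1) 1
  rw [dD_val] at e00 e11
  rw [mat_mul, Matrix.neg_apply, mat_mul] at e00 e11
  simp at e00 e11
  have j00 : J.1 0 0 = 0 := by
    have : 2 * J.1 0 0 = 0 := by linear_combination e00
    exact (mul_eq_zero.1 this).resolve_left h2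
  have j11 : J.1 1 1 = 0 := by
    have : 2 * J.1 1 1 = 0 := by linear_combination (-1 : F) * e11
    exact (mul_eq_zero.1 this).resolve_left h2
  have jd : J.1 0 1 * J.1 1 0 = -1 := by
    have h3 := congrFun (congrFun hJ2 0) 0
    rw [mat_mul, j00] at h3
    simpa using h3
  have j01 : J.1 0 1 ≠ 0 := by
    intro h
    rw [h, zero_mul] at jd
    exact (neg_ne_zero.2 one_ne_zero) jd.symm
  let k : GL (Fin 2) F := toGL' !![1, 0; 0, J.1 0 1] (by rw [det_fin_two_of]; simpa using j01)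
  have hk : k.1 = !![1, 0; 0, J.1 0 1] := rfl
  have hkD : k.1 * (dD F).1 = (dD F).1 * k.1 := by
    rw [hk, dD_val]
    ext i j
    fin_cases i <;> fin_cases j <;> simp [Matrix.mul_apply, Fin.sum_univ_two]
  have hkJ : k.1 * J.1 = (wl F).1 * k.1 := by
    rw [hk]
    apply mat_ext
    · rw [mat_mul, mat_mul, j00]
      simp [wl]
    · rw [mat_mul, mat_mul]
      simp [wl]
    · rw [mat_mul, mat_mul, j00]
      simp [wl]
      exact jd
    · rw [mat_mul, mat_mul, j11]
      simp [wl]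
  refine ⟨k * h, ?_, ?_⟩
  · have e : (k * h).1 = k.1 * h.1 := rfl
    rw [e, mul_assoc, hh, ← mul_assoc, hkD, mul_assoc]
  · have e : (k * h).1 = k.1 * h.1 := rfl
    rw [e, mul_assoc, hJ1, ← mul_assoc, hkJ, mul_assoc]

/-- generation in the frame -/
theorem gen_frame [Finite F] (R : Cfsg.Agent.GH.L2Aut.Rep F L) (hq : 11 ≤ Nat.card F)
    (hsq : ¬ IsSquare (-1 : F)) {α : MulAut L} {e : L} (hα : α = R.gl (dD F)) (he : e = R.π (wl F))
    (X : Subgroup L) (h1 : ∀ x, α x = x → x ∈ X) (h3 : ∀ x, α (e * x * e⁻¹) = x → x ∈ X) : X = ⊤ := by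
  have key : X.comap R.π = ⊤ := by
    refine eq_top_of_hyp hq hsq R.two _ ?_ ?_
    · intro s hs
      rw [Subgroup.mem_comap]
      apply h1
      rw [hα, R.gl_apply, R.π_eq_iff]
      rcases hs with ⟨ha, hb⟩ | ⟨ha, hb⟩
      · left
        apply conjGL_eq_of
        rw [dD_val]
        apply mat_ext
        · rw [mat_mul, mat_mul]; simp
        · rw [mat_mul, mat_mul]
          simp
          have : s.1 0 1 = 0 := ha
          rw [this]; simp
        · rw [mat_mul, mat_mul]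
          simp
          have : s.1 1 0 = 0 := hb
          rw [this]; simp
        · rw [mat_mul, mat_mul]; simp
      · right
        apply conjGL_eq_of
        rw [dD_val]
        have ha' : s.1 0 0 = 0 := ha
        have hb' : s.1 1 1 = 0 := hb
        apply mat_ext
        · rw [mat_mul, mat_mul]; simp [ha']
        · rw [mat_mul, mat_mul]; simp
        · rw [mat_mul, mat_mul]; simp
        · rw [mat_mul, mat_mul]; simp [hb']
    · intro u hu
      rw [Subgroup.mem_comap]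
      apply h3
      rw [he, ← map_mul, ← map_inv, ← map_mul, hα, R.gl_apply]
      congr 1
      apply conjGL_eq_of
      have h4 : (wl F * hyp R.two u hu * (wl F)⁻¹).1 =
          !![(u + u⁻¹) / 2, -((u - u⁻¹) / 2); -((u - u⁻¹) / 2), (u + u⁻¹) / 2] := by
        have hd : (!![(u + u⁻¹) / 2, -((u - u⁻¹) / 2); -((u - u⁻¹) / 2), (u + u⁻¹) / 2] : M2).det = 1 := by
          rw [det_fin_two_of]
          have := R.two
          field_simp; ring
        have h5 : wl F * hyp R.two u hu * (wl F)⁻¹ = ⟨_, hd⟩ := by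
          refine mul_inv_eq_of_eq_mul (Subtype.ext ?_)
          change (wl F).1 * (hyp R.two u hu).1 =
            !![(u + u⁻¹) / 2, -((u - u⁻¹) / 2); -((u - u⁻¹) / 2), (u + u⁻¹) / 2] * (wl F).1
          have h6 : (hyp R.two u hu).1 =
              !![(u + u⁻¹) / 2, (u - u⁻¹) / 2; (u - u⁻¹) / 2, (u + u⁻¹) / 2] := rfl
          have h7 : (wl F).1 = !![0, 1; -1, 0] := rfl
          rw [h6, h7]
          ext i j
          fin_cases i <;> fin_cases j <;> simp [Matrix.mul_apply, Fin.sum_univ_two]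
        rw [h5]
      rw [h4, dD_val]
      have h5 : (hyp R.two u hu).1 = !![(u + u⁻¹) / 2, (u - u⁻¹) / 2; (u - u⁻¹) / 2, (u + u⁻¹) / 2] := rfl
      rw [h5]
      ext i j
      fin_cases i <;> fin_cases j <;> simp [Matrix.mul_apply, Fin.sum_univ_two]
  rw [eq_top_iff]
  intro x _
  obtain ⟨s, rfl⟩ := R.surj x
  have : s ∈ X.comap R.π := by rw [key]; trivial
  exact this

/-- **generation for `q ≡ 3 mod 4`** -/
theorem genOO_three [Finite F] (R : Cfsg.Agent.GH.L2Aut.Rep F L) (hq : 11 ≤ Nat.card F)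
    (hsq : ¬ IsSquare (-1 : F)) {α : MulAut L} (hα : α ∈ R.PGL) (hα2 : α * α = 1) (hαI : α ∉ Inn L)
    {e : L} (he : e * e = 1) (he1 : e ≠ 1) (hfix : α e = e) (X : Subgroup L)
    (h1 : ∀ x, α x = x → x ∈ X) (h3 : ∀ x, α (e * x * e⁻¹) = x → x ∈ X) : X = ⊤ := by
  have hα1 : α ≠ 1 := by
    rintro rfl
    exact hαI (one_mem _)
  obtain ⟨g, rfl⟩ := R.mem_PGL.1 hα
  have htr := R.tr_of_inv hα1 hα2
  have hs := R.not_scalar_of_ne hα1
  have hgsq : ¬ IsSquare g.1.det := fun h => hαI (R.gl_mem_inn.2 h)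
  obtain ⟨I, rfl, hI⟩ := R.exists_inv_lift he he1
  -- `I` and `g` anticommute
  have hIg : I.1 * g.1 = -(g.1 * I.1) := by
    have hc : R.gl (Matrix.SpecialLinearGroup.toGL I) * R.gl g =
        R.gl g * R.gl (Matrix.SpecialLinearGroup.toGL I) := by
      rw [← R.conj_π, conj_comm_iff, hfix]
    rcases R.comm_cases hc with h | h
    · exfalso
      have h4 : R.gl (Matrix.SpecialLinearGroup.toGL I) * R.gl (Matrix.SpecialLinearGroup.toGL I) = 1 := by
        rw [← R.conj_π, ← map_mul, he, map_one]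
      rcases R.torus_inv hs htr h.symm h4 with h5 | h5
      · apply he1
        apply R.conj_injective
        rw [R.conj_π, h5, map_one]
      · apply hαI
        rw [← h5, ← R.conj_π]
        exact ⟨_, rfl⟩
    · exact h
  -- normalise the determinant
  have hdet0 : g.1.det ≠ 0 := by
    intro h
    apply hgsq
    rw [h]
    exact ⟨0, by ring⟩
  obtain ⟨d, hd⟩ : IsSquare (g.1.det * (-1)) := isSquare_mul_of_not hgsq hsq
  have hd0 : d ≠ 0 := by
    rintro rfl
    rw [mul_zero] at hd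
    apply hdet0
    linear_combination (-1 : F) * hd
  obtain ⟨G, hG⟩ : ∃ G : M2, G = d⁻¹ • g.1 := ⟨_, rfl⟩
  have hGG : G * G = 1 := by
    rw [hG, smul_mul_smul_comm, Cfsg.Agent.GH.L2Aut.Rep.sq_of_tr htr, smul_smul]
    have : d⁻¹ * d⁻¹ * -g.1.det = 1 := by
      have h4 : -g.1.det = d * d := by rw [← hd]; ring
      rw [h4]; field_simp
    rw [this, one_smul]
  have hGtr : G.trace = 0 := by rw [hG, Matrix.trace_smul, htr, smul_zero]
  have hIG : I.1 * G = -(G * I.1) := by
    rw [hG, mul_smul_comm, hIg, smul_neg, smul_mul_assoc]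
  obtain ⟨h, hh, hhI⟩ := exists_frame R.two hGG hGtr hI hIG
  have hGdet : G.det ≠ 0 := by
    rw [hG, Matrix.det_smul]
    exact mul_ne_zero (pow_ne_zero _ (inv_ne_zero hd0)) hdet0
  have hglG : R.gl (toGL' G hGdet) = R.gl g := by
    have h4 : R.gl (toGL' G hGdet * g⁻¹) = 1 := by
      rw [R.gl_eq_one_iff]
      refine ⟨d⁻¹, ?_⟩
      have h5 : (toGL' G hGdet * g⁻¹).1 = G * g⁻¹.1 := rfl
      have h6 : g.1 * g⁻¹.1 = 1 := congrArg Units.val (mul_inv_cancel g)
      rw [h5, hG, smul_mul_assoc, h6]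
    rw [map_mul, map_inv] at h4
    exact mul_inv_eq_one.1 h4
  have hhh : h * toGL' G hGdet = dD F * h := Units.ext hh
  refine gen_frame (R.twist h⁻¹) hq hsq (α := R.gl g) (e := R.π I) ?_ ?_ X h1 h3
  · rw [R.twist_gl, ← hglG, ← map_inv, inv_inv, ← map_mul, ← map_mul]
    congr 1
    rw [mul_assoc, ← hhh, inv_mul_cancel_left]
  · rw [R.twist_π]
    congr 1
    symm
    apply conjGL_eq_of
    have h6 : h⁻¹.1 * h.1 = 1 := congrArg Units.val (inv_mul_cancel h)
    have h7 : h.1 * h⁻¹.1 = 1 := congrArg Units.val (mul_inv_cancel h)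
    calc h⁻¹.1 * (wl F).1 = h⁻¹.1 * ((wl F).1 * (h.1 * h⁻¹.1)) := by rw [h7, mul_one]
      _ = h⁻¹.1 * ((wl F).1 * h.1) * h⁻¹.1 := by simp only [mul_assoc]
      _ = h⁻¹.1 * (h.1 * I.1) * h⁻¹.1 := by rw [hhI]
      _ = (h⁻¹.1 * h.1) * I.1 * h⁻¹.1 := by simp only [mul_assoc]
      _ = I.1 * h⁻¹.1 := by rw [h6, one_mul]

end split

section nonsplit

/-- a square-zero perturbation of the identity -/
theorem one_add_pow {n : M2} (hn : n * n = 0) (k : ℕ) : (1 + n) ^ k = 1 + k • n := by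
  induction k with
  | zero => simp
  | succ k ih =>
    rw [pow_succ, ih, add_mul, mul_add, mul_add, one_mul, one_mul, mul_one, smul_mul_assoc, hn, smul_zero,
      add_zero, succ_nsmul]
    abel

/-- two involutions with product of order prime to `2q`: an involution of `PGL` commutes with both -/
theorem exists_perp [Finite F] (R : Cfsg.Agent.GH.L2Aut.Rep F L) {a b : L} (ha : a * a = 1) (ha1 : a ≠ 1)
    (hb : b * b = 1) (hb1 : b ≠ 1) (hab : (a * b) ^ (2 * Nat.card F) ≠ 1) :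
    ∃ α ∈ R.PGL, α * α = 1 ∧ α ≠ 1 ∧ α a = a ∧ α b = b := by
  obtain ⟨I, rfl, hI⟩ := R.exists_inv_lift ha ha1
  obtain ⟨J, rfl, hJ⟩ := R.exists_inv_lift hb hb1
  obtain ⟨w, hw⟩ : ∃ w : M2, w = I.1 * J.1 - J.1 * I.1 := ⟨_, rfl⟩
  have htr : w.trace = 0 := by
    rw [hw, Matrix.trace_sub, Matrix.trace_mul_comm, sub_self]
  have eI : I.1 * w = -(w * I.1) := by
    rw [hw, mul_sub, sub_mul, ← mul_assoc, hI, mul_assoc J.1 I.1 I.1, hI, mul_assoc I.1 J.1 I.1]
    simp only [neg_mul, one_mul, mul_neg, mul_one, sub_neg_eq_add]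
    abel
  have eJ : J.1 * w = -(w * J.1) := by
    rw [hw, mul_sub, sub_mul, ← mul_assoc J.1 J.1 I.1, hJ, mul_assoc I.1 J.1 J.1, hJ, mul_assoc J.1 I.1 J.1]
    simp only [neg_mul, one_mul, mul_neg, mul_one, neg_sub, sub_neg_eq_add]
  have hdet : w.det ≠ 0 := by
    intro hd
    have hww : w * w = 0 := by
      rw [cayley w, htr, hd, zero_smul, zero_smul, sub_zero]
    -- `s = I J`
    have e1 : I.1 * J.1 * w = (I.1 * J.1) * (I.1 * J.1) - 1 := by
      have e3 : I.1 * J.1 * (J.1 * I.1) = 1 := by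
        calc I.1 * J.1 * (J.1 * I.1) = I.1 * (J.1 * J.1) * I.1 := by simp only [mul_assoc]
          _ = 1 := by rw [hJ, mul_neg, mul_one, neg_mul, hI, neg_neg]
      rw [hw, mul_sub, e3]
    have e2 : w * (I.1 * J.1) = (I.1 * J.1) * (I.1 * J.1) - 1 := by
      have e3 : J.1 * I.1 * (I.1 * J.1) = 1 := by
        calc J.1 * I.1 * (I.1 * J.1) = J.1 * (I.1 * I.1) * J.1 := by simp only [mul_assoc]
          _ = 1 := by rw [hI, mul_neg, mul_one, neg_mul, hJ, neg_neg]
      rw [hw, sub_mul, e3]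
    have hnn : (I.1 * J.1 * w) * (I.1 * J.1 * w) = 0 := by
      calc (I.1 * J.1 * w) * (I.1 * J.1 * w) = I.1 * J.1 * (w * (I.1 * J.1)) * w := by
            simp only [mul_assoc]
        _ = I.1 * J.1 * (I.1 * J.1 * w) * w := by rw [e2, e1]
        _ = I.1 * J.1 * (I.1 * J.1) * (w * w) := by simp only [mul_assoc]
        _ = 0 := by rw [hww, mul_zero]
    have h3 : ((I.1 * J.1) * (I.1 * J.1)) ^ Nat.card F = 1 := by
      have h4 : (I.1 * J.1) * (I.1 * J.1) = 1 + I.1 * J.1 * w := by rw [e1]; abel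
      rw [h4, one_add_pow hnn]
      have h5 : (Nat.card F) • (I.1 * J.1 * w) = 0 := by
        have h6 : ((Nat.card F : ℕ) : F) = 0 := by
          let _ := Fintype.ofFinite F
          rw [Nat.card_eq_fintype_card]
          exact FiniteField.cast_card_eq_zero F
        rw [← Nat.cast_smul_eq_nsmul F, h6, zero_smul]
      rw [h5, add_zero]
    apply hab
    have h4 : (I * J) ^ (2 * Nat.card F) = 1 := by
      apply Subtype.ext
      rw [pow_mul, sq]
      exact h3
    rw [← map_mul, ← map_pow, h4, map_one]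
  refine ⟨R.gl (toGL' w hdet), R.gl_mem_PGL _, R.gl_sq_of_tr htr, ?_, ?_, ?_⟩
  · intro h
    obtain ⟨c, hc⟩ := R.gl_eq_one_iff.1 h
    have hc' : w = c • (1 : M2) := hc
    rw [hc', Matrix.trace_smul, Matrix.trace_one, Fintype.card_fin] at htr
    have hc0 : c = 0 := by
      rw [smul_eq_mul] at htr
      have h2 : ((2 : ℕ) : F) ≠ 0 := by exact_mod_cast R.two
      exact (mul_eq_zero.1 htr).resolve_right h2
    apply hdet
    rw [hc', hc0, zero_smul, Matrix.det_zero]
  · apply R.conj_injective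
    apply conj_comm_iff.1
    rw [R.conj_π]
    exact R.gl_comm_of_anticomm eI
  · apply R.conj_injective
    apply conj_comm_iff.1
    rw [R.conj_π]
    exact R.gl_comm_of_anticomm eJ

/-- `fixSub` of a conjugate -/
theorem isCoatom_fixSub_conj {H : Type*} [Group H] {φ : MulAut H} {x : H} (h : IsCoatom (fixSub φ)) :
    IsCoatom (fixSub (MulAut.conj x * φ * (MulAut.conj x)⁻¹)) := by
  have h3 := (((MulAut.conj x : MulAut H) : H ≃* H).mapSubgroup.isCoatom_iff (fixSub φ)).2 h
  have h4 : ((MulAut.conj x : MulAut H) : H ≃* H).mapSubgroup (fixSub φ) =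
      fixSub (MulAut.conj x * φ * (MulAut.conj x)⁻¹) := by
    ext y
    rw [MulEquiv.coe_mapSubgroup, Subgroup.mem_map_equiv, mem_fixSub, mem_fixSub]
    change φ ((MulAut.conj x)⁻¹ y) = (MulAut.conj x)⁻¹ y ↔ MulAut.conj x (φ ((MulAut.conj x)⁻¹ y)) = y
    constructor
    · intro h
      rw [h, MulAut.apply_inv_self]
    · intro h
      nth_rewrite 2 [← h]
      rw [MulAut.inv_apply_self]
  rw [← h4]
  exact h3

theorem exists_outer_coatom [Finite F] (R : Cfsg.Agent.GH.L2Aut.Rep F L) (hq : 11 ≤ Nat.card F)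
    (h4 : Nat.card F % 4 = 1) :
    ∃ α ∈ R.PGL, α * α = 1 ∧ α ∉ Inn L ∧ IsCoatom (fixSub α) := by
  have hfin : Finite L := R.finite
  obtain ⟨m, hm⟩ : ∃ m, 2 * m = Nat.card F + 1 := ⟨(Nat.card F + 1) / 2, by omega⟩
  have hmo : Odd m := by rw [Nat.odd_iff]; omega
  obtain ⟨H, hH, ⟨e⟩⟩ : ∃ H : Subgroup L, IsCoatom H ∧ Nonempty (H ≃* DihedralGroup m) := by
    let _ := Fintype.ofFinite F
    have hq' := hq
    rw [Nat.card_eq_fintype_card] at hq' h4 hm
    obtain ⟨H, h1, ⟨e⟩⟩ := Cfsg.Agent.S0811.result (F := F) rfl (by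
      simp only [Finset.mem_insert, Finset.mem_singleton, not_or]
      omega)
    have h3 : (Fintype.card F + 1) / Nat.gcd 2 (Fintype.card F - 1) = m := by
      have : Nat.gcd 2 (Fintype.card F - 1) = 2 := by
        apply Nat.gcd_eq_left
        omega
      rw [this]; omega
    rw [h3] at e
    let f : L ≃* Matrix.ProjectiveSpecialLinearGroup (Fin 2) F := toEquiv R
    refine ⟨H.map f.symm.toMonoidHom, ?_,
      ⟨(H.equivMapOfInjective _ f.symm.injective).symm.trans e⟩⟩
    exact (f.symm.mapSubgroup.isCoatom_iff H).2 h1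
  obtain ⟨a, ha⟩ : ∃ a : H, a = e.symm (DihedralGroup.sr 0) := ⟨_, rfl⟩
  obtain ⟨b, hb⟩ : ∃ b : H, b = e.symm (DihedralGroup.sr 1) := ⟨_, rfl⟩
  have haa : a * a = 1 := by rw [ha, ← map_mul, DihedralGroup.sr_mul_self, map_one]
  have hbb : b * b = 1 := by rw [hb, ← map_mul, DihedralGroup.sr_mul_self, map_one]
  have hab : a * b = e.symm (DihedralGroup.r 1) := by
    rw [ha, hb, ← map_mul, DihedralGroup.sr_mul_sr, sub_zero]
  have hord : orderOf ((a : L) * b) = m := by
    have h1 : ((a : L) * b) = ((a * b : H) : L) := rfl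
    rw [h1, Subgroup.orderOf_coe, hab, MulEquiv.orderOf_eq, DihedralGroup.orderOf_r_one]
  have hpow : ((a : L) * b) ^ (2 * Nat.card F) ≠ 1 := by
    intro h
    have h1 := orderOf_dvd_of_pow_eq_one h
    rw [hord] at h1
    have h3 : m ∣ 2 * Nat.card F + 2 := ⟨4, by omega⟩
    have h5 : m ∣ 2 := (Nat.dvd_add_right h1).1 h3
    have h6 := Nat.le_of_dvd (by norm_num) h5
    omega
  have ha1 : (a : L) ≠ 1 := by
    intro h
    rw [h, one_mul] at hpow
    apply hpow
    rw [pow_mul, sq]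
    have : (b : L) * b = 1 := congrArg Subtype.val hbb
    rw [this, one_pow]
  have hb1 : (b : L) ≠ 1 := by
    intro h
    rw [h, mul_one] at hpow
    apply hpow
    rw [pow_mul, sq]
    have : (a : L) * a = 1 := congrArg Subtype.val haa
    rw [this, one_pow]
  obtain ⟨α, hα, hα2, hα1, hαa, hαb⟩ := exists_perp R (congrArg Subtype.val haa) ha1
    (congrArg Subtype.val hbb) hb1 hpow
  -- `H ≤ Fix α`
  have hle : H ≤ fixSub α := by
    have hr : ∀ i : ZMod m, α ((e.symm (DihedralGroup.r i) : H) : L) = (e.symm (DihedralGroup.r i) : H) := by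
      intro i
      have : NeZero m := ⟨by omega⟩
      have h1 : (DihedralGroup.r i : DihedralGroup m) = DihedralGroup.r 1 ^ i.val := by
        rw [DihedralGroup.r_one_pow, ZMod.natCast_zmod_val]
      have h3 : ((e.symm (DihedralGroup.r i) : H) : L) = ((a : L) * b) ^ i.val := by
        rw [h1, map_pow, ← hab]; rfl
      rw [h3, map_pow, map_mul, hαa, hαb]
    intro x hx
    rw [mem_fixSub]
    obtain ⟨y, hy⟩ : ∃ y, y = e ⟨x, hx⟩ := ⟨_, rfl⟩
    have hxy : x = (e.symm y : H) := by rw [hy, MulEquiv.symm_apply_apply]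
    rcases y with i | i
    · rw [hxy]; exact hr i
    · have h1 : (DihedralGroup.sr i : DihedralGroup m) = DihedralGroup.sr 0 * DihedralGroup.r i := by
        rw [DihedralGroup.sr_mul_r, zero_add]
      have h3 : x = (a : L) * ((e.symm (DihedralGroup.r i) : H) : L) := by
        rw [hxy, h1, map_mul, ← ha]; rfl
      rw [h3, map_mul, hαa, hr]
  have hne : fixSub α ≠ ⊤ := by
    intro h
    apply hα1
    ext x
    have : x ∈ fixSub α := by rw [h]; trivial
    exact this
  have hHα : fixSub α = H := (hH.le_iff_eq hne).1 hle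
  refine ⟨α, hα, hα2, ?_, by rw [hHα]; exact hH⟩
  intro hI
  obtain ⟨t, ht, rfl⟩ := R.inn_inv hI hα2
  have htH : t ∈ H := by
    rw [← hHα, mem_fixSub, MulAut.conj_apply, mul_inv_cancel_right]
  have hc : e ⟨t, htH⟩ ∈ Subgroup.center (DihedralGroup m) := by
    rw [Subgroup.mem_center_iff]
    intro y
    obtain ⟨x, rfl⟩ := e.surjective y
    rw [← map_mul, ← map_mul]
    congr 1
    apply Subtype.ext
    have h1 : MulAut.conj t (x : L) = x := mem_fixSub.1 (hle x.2)
    rw [MulAut.conj_apply] at h1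
    change (x : L) * t = t * x
    calc (x : L) * t = t * x * t⁻¹ * t := by rw [h1]
      _ = t * x := by group
  rw [DihedralGroup.center_eq_bot_of_odd_ne_one hmo (by omega), Subgroup.mem_bot] at hc
  have h1 : (⟨t, htH⟩ : H) = 1 := by
    apply e.injective
    rw [hc, map_one]
  apply hα1
  have : t = 1 := congrArg Subtype.val h1
  rw [this, map_one]

/-- **generation for `q ≡ 1 mod 4`** -/
theorem genOO_one [Finite F] (R : Cfsg.Agent.GH.L2Aut.Rep F L) (hq : 11 ≤ Nat.card F)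
    (h4 : Nat.card F % 4 = 1) {α : MulAut L} (hα : α ∈ R.PGL) (hα2 : α * α = 1) (hαI : α ∉ Inn L)
    {e : L} (he : e * e = 1) (he1 : e ≠ 1) (hfix : α e = e) (X : Subgroup L)
    (h1 : ∀ x, α x = x → x ∈ X) (h3 : ∀ x, α (e * x * e⁻¹) = x → x ∈ X) : X = ⊤ := by
  have hα1 : α ≠ 1 := by
    rintro rfl
    exact hαI (one_mem _)
  have hco : ∀ β ∈ R.PGL, β * β = 1 → β ∉ Inn L → IsCoatom (fixSub β) := by
    intro β hβ hβ2 hβI
    obtain ⟨γ, hγ, hγ2, hγI, hγc⟩ := exists_outer_coatom R hq h4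
    obtain ⟨x, hx⟩ := R.dtype_conj hγ hγI hγ2 hβ hβI hβ2
    rw [← hx]
    exact isCoatom_fixSub_conj hγc
  have hαe : α * MulAut.conj e = MulAut.conj e * α := by
    symm
    rw [conj_comm_iff, hfix]
  have hβI : α * MulAut.conj e ∉ Inn L := by
    intro h
    apply hαI
    have h5 : MulAut.conj e ∈ Inn L := ⟨e, rfl⟩
    exact (Subgroup.mul_mem_cancel_right _ h5).1 h
  have hβ2 : (α * MulAut.conj e) * (α * MulAut.conj e) = 1 := by
    calc (α * MulAut.conj e) * (α * MulAut.conj e) = α * (MulAut.conj e * α) * MulAut.conj e := by group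
      _ = (α * α) * (MulAut.conj e * MulAut.conj e) := by rw [← hαe]; group
      _ = 1 := by rw [hα2, ← map_mul, he, map_one, one_mul]
  by_contra hX
  have e1 := ((hco α hα hα2 hαI).le_iff_eq hX).1 (fun x hx => h1 x hx)
  have e2 := ((hco _ (mul_mem hα (R.conj_mem_PGL e)) hβ2 hβI).le_iff_eq hX).1 (fun x hx => h3 x (by
    have h5 : α (MulAut.conj e x) = x := hx
    rwa [MulAut.conj_apply] at h5))
  obtain ⟨x, hx, hx2⟩ := exists_fix_not_comm R (by omega) he he1 hα2 hα1
    (fun h => hαI ⟨e, h.symm⟩) hfix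
  have hxX : x ∈ X := h1 x hx
  rw [e2, mem_fixSub] at hxX
  have h5 : α (MulAut.conj e x) = x := hxX
  have h6 : MulAut.conj e x = x := by
    apply α.injective
    rw [h5, hx]
  apply hx2
  rw [MulAut.conj_apply] at h6
  calc x * e = e * x * e⁻¹ * e := by rw [h6]
    _ = e * x := by group

end nonsplit

/-- **generation by two commuting outer involutions** -/
theorem genOO [Finite F] (R : Cfsg.Agent.GH.L2Aut.Rep F L) (hq : 11 ≤ Nat.card F)
    {α : MulAut L} (hα : α ∈ R.PGL) (hα2 : α * α = 1) (hαI : α ∉ Inn L)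
    {e : L} (he : e * e = 1) (he1 : e ≠ 1) (hfix : α e = e) (X : Subgroup L)
    (h1 : ∀ x, α x = x → x ∈ X) (h3 : ∀ x, α (e * x * e⁻¹) = x → x ∈ X) : X = ⊤ := by
  have hodd := odd_card R.two
  rw [Nat.odd_iff] at hodd
  by_cases hsq : IsSquare (-1 : F)
  · refine genOO_one R hq ?_ hα hα2 hαI he he1 hfix X h1 h3
    let _ := Fintype.ofFinite F
    rw [FiniteField.isSquare_neg_one_iff, ← Nat.card_eq_fintype_card] at hsq
    omega
  · exact genOO_three R hq hsq hα hα2 hαI he he1 hfix X h1 h3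

end Cfsg.Agent.UGT.TT.GenOO
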