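import Cfsg.Agent.UGT.TT.Defs
import Cfsg.Agent.UGT.TT.GenOO

/-!
# `TFacts L PGL(2,F)` for `L ≅ PSL(2,F)`, `|F| ≥ 11` odd
-/

set_option autoImplicit false

namespace Cfsg.Agent.UGT.TT

open Cfsg.Agent.GH.L2Aut Cfsg.Agent.UGT.SL

/-- **the facts on `PSL(2,F)` used in THEOREM T** -/
theorem tfacts {F : Type*} [Field F] [Finite F] {L : Type*} [Group L] (R : Cfsg.Agent.GH.L2Aut.Rep F L)
    (hq : 11 ≤ Nat.card F) : TFacts L R.PGL := by
  have hfin : Finite L := R.finite
  have hI : ∀ {α : MulAut L}, (∀ q, α ≠ MulAut.conj q) ↔ α ∉ Inn L := by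
    intro α
    constructor
    · rintro h ⟨q, rfl⟩
      exact h q rfl
    · rintro h q rfl
      exact h ⟨q, rfl⟩
  have hcen : ∀ e : L, ∀ X : Subgroup L, (∀ x, x * e = e * x → x ∈ X) →
      Subgroup.centralizer ({e} : Set L) ≤ X := fun e X h x hx =>
    h x (Subgroup.mem_centralizer_singleton_iff.1 hx)
  have hgen : ∀ {α : MulAut L} {e : L}, α * α = 1 → α ≠ 1 → α ≠ MulAut.conj e → e * e = 1 → e ≠ 1 →
      α e = e → ∀ X : Subgroup L, (∀ x, α x = x → x ∈ X) → (∀ x, x * e = e * x → x ∈ X) → X = ⊤ := by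
    intro α e hα hα1 hαe he he1 hfix X h1 h2
    obtain ⟨x, hx, hx2⟩ := exists_fix_not_comm R (by omega) he he1 hα hα1 hαe hfix
    by_contra hX
    have h4 := ((cent_coatom R hq he he1).le_iff_eq hX).1 (hcen e X h2)
    apply hx2
    apply Subgroup.mem_centralizer_singleton_iff.1
    rw [← h4]
    exact h1 x hx
  exact
    { fin := hfin
      simple := PGLSolv.isSimple R (by omega)
      nab := PGLSolv.nab R
      inv := by
        obtain ⟨a, b, hab⟩ := R.exists_four
        exact ⟨a, hab.aa, hab.a1⟩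
      inn := R.conj_mem_PGL
      solv := fun α h1 h2 h3 J hp hc => PGLSolv.solv R h1 h2 h3 hp hc
      field := fun α h1 h2 => PGLSolv.field R hq h1 h2
      rank := fun α hα β hβ γ hγ h1 h2 h3 h12 h13 h23 => PGLSolv.rank R hα hβ hγ h1 h2 h3 h12 h13 h23
      outer := by
        intro α hα β hβ h1 h2
        obtain ⟨q, hq⟩ := R.mul_mem_inn hα (hI.1 h1) hβ (hI.1 h2)
        exact ⟨q, hq.symm⟩
      four := fun e h1 h2 => PGLSolv.four R h1 h2
      fix := fun α _ h2 _ => PGLSolv.fixed (PGLSolv.two_dvd R) h2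
      genII := by
        intro e f he he1 hf hf1 hfe hc X h1 h2
        refine hgen (α := MulAut.conj e) (e := f) ?_ ?_ ?_ hf hf1 ?_ X ?_ h2
        · rw [← map_mul, he, map_one]
        · intro h
          apply he1
          apply R.conj_injective
          rw [h, map_one]
        · intro h
          exact hfe (R.conj_injective h).symm
        · rw [MulAut.conj_apply, hc, mul_inv_cancel_right]
        · intro x hx
          apply h1
          rw [MulAut.conj_apply] at hx
          calc x * e = e * x * e⁻¹ * e := by rw [hx]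
            _ = e * x := by group
      genOI := by
        intro α _ h2 h3 e he he1 hfix X h4 h5
        refine hgen h2 ?_ (h3 e) he he1 hfix X h4 h5
        rintro rfl
        exact h3 1 (by rw [map_one])
      genOO := fun α h1 h2 h3 e he he1 hfix X h4 h5 =>
        GenOO.genOO R hq h1 h2 (hI.1 h3) he he1 hfix X h4 h5 }

end Cfsg.Agent.UGT.TT
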