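import Cfsg.Agent.UGT.TT.Ctrl

/-!
# THEOREM T: `Ctrl` for a side, from "no adjacent involutions"

`TBase Q`: the facts on the simple group `Q` that are needed.
`Side.Ok.ctrl_of`: a side with at least two components is a configuration `Ctrl S.H S.W S.F` if no involution of a
component is adjacent (`na1`) and, for at least three components, no involution acting trivially on a component is
adjacent (`na3`).
-/

set_option autoImplicit false

namespace Cfsg.Agent.UGT.TT

open Subgroup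

universe u v w

/-- The facts on `Q`. -/
structure TBase (Q : Type v) [Group Q] : Prop where
  fin : Finite Q
  simple : IsSimpleGroup Q
  nab : ¬ ∀ x y : Q, x * y = y * x
  /-- `Q` contains an involution -/
  inv : ∃ e : Q, e * e = 1 ∧ e ≠ 1
  /-- every involution of `Q` commutes with another one -/
  four : ∀ e : Q, e * e = 1 → e ≠ 1 → ∃ f : Q, f * f = 1 ∧ f ≠ 1 ∧ f ≠ e ∧ e * f = f * e

theorem TFacts.base {Q : Type v} [Group Q] {P : Subgroup (MulAut Q)} (T : TFacts Q P) : TBase Q :=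
  ⟨T.fin, T.simple, T.nab, T.inv, T.four⟩

namespace TBase

variable {Q : Type v} [Group Q]

theorem center (T : TBase Q) {q : Q} (h : ∀ x, q * x = x * q) : q = 1 := by
  have := T.simple
  rcases IsSimpleGroup.eq_bot_or_eq_top_of_normal (Subgroup.center Q) inferInstance with h1 | h1
  · rw [← mem_bot, ← h1, mem_center_iff]
    intro x
    exact (h x).symm
  · exfalso
    apply T.nab
    intro x y
    have h2 : y ∈ Subgroup.center Q := by rw [h1]; trivial
    exact mem_center_iff.mp h2 x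

theorem conj_ne_one (T : TBase Q) {q : Q} (h : q ≠ 1) : (MulAut.conj q : MulAut Q) ≠ 1 := by
  intro h1
  apply h
  apply T.center
  intro x
  have h2 := DFunLike.congr_fun h1 x
  rw [MulAut.conj_apply, MulAut.one_apply] at h2
  calc q * x = (q * x * q⁻¹) * q := by group
    _ = x * q := by rw [h2]

end TBase

variable {G : Type u} [Group G] {Q : Type v} [Group Q] {ι : Type w}

namespace Side

variable {S : Side G Q ι}

theorem Ok.norm_F' (h : S.Ok) {j k : ι} : ∀ b ∈ S.F k, ∀ a ∈ S.F j, b * a * b⁻¹ ∈ S.F j := by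
  intro b hb a ha
  by_cases hjk : j = k
  · subst hjk
    exact (S.F j).mul_mem ((S.F j).mul_mem hb ha) ((S.F j).inv_mem hb)
  · exact ((h.ind_other hjk hb).2 a ha).1

theorem Ok.inf' (h : S.Ok) (T : TBase Q) {i j : ι} (hij : i ≠ j) {x : G} (hi : x ∈ S.F i) (hj : x ∈ S.F j) :
    x ∈ S.W := by
  rw [← h.ker i x hi]
  have h1 := h.ind_uniq (h.ind_self hi) (h.ind_other hij hj)
  by_contra h2
  exact T.conj_ne_one h2 h1

theorem Ok.le_eq' (h : S.Ok) (T : TBase Q) {i j : ι} (hle : S.F i ≤ S.F j) : i = j := by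
  by_contra hij
  obtain ⟨e, -, he⟩ := T.inv
  obtain ⟨x, hx, hxe⟩ := h.surj i e
  have h1 := h.inf' T hij hx (hle hx)
  rw [← h.ker i x hx, hxe] at h1
  exact he h1

/-- the elements of the product of the other components act trivially -/
theorem Ok.ind_of_mem_iSup [Finite G] (h : S.Ok) (T : TBase Q) {i : ι} {x : G}
    (hx : x ∈ (⨆ j : {j // j ≠ i}, S.F j.1 : Subgroup G)) : S.Ind i x 1 := by
  have := T.fin
  have h1 : (⨆ j : {j // j ≠ i}, S.F j.1 : Subgroup G) ≤ (h.rel i).pre ⊥ :=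
    iSup_le fun j y hy => ⟨1, one_mem _, h.ind_other (Ne.symm j.2) hy⟩
  obtain ⟨β, hβ, hy⟩ := h1 hx
  rw [mem_bot] at hβ
  rwa [hβ] at hy

/-- two commuting involutions of `F i` -/
theorem Ok.exists_four [Finite G] (h : S.Ok) (T : TBase Q) (i : ι) :
    ∃ a ∈ S.F i, ∃ b ∈ S.F i, a * a = 1 ∧ b * b = 1 ∧ a * b = b * a ∧ a ≠ 1 ∧ b ≠ 1 ∧ a ≠ b := by
  have := T.fin
  obtain ⟨e, he2, he1⟩ := T.inv
  obtain ⟨f, hf2, hf1, hfe, hef⟩ := T.four e he2 he1
  obtain ⟨a, ha, hae, ha2, -⟩ := h.exists_inv (i := i) (T := ⊥) (q := e) IsPGroup.of_bot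
    (by
      intro t ht
      rw [mem_bot] at ht
      rw [ht]
      exact ⟨1, Ind.one, rfl⟩) he2
  obtain ⟨b, hb, hbf, hb2, hab⟩ := h.exists_inv (i := i) (T := zpowers a) (q := f)
    (Cfsg.Agent.UGT.SL.two_isPGroup ha2) (by
      have h1 : zpowers a ≤ (h.rel i).pre (MulAction.stabilizer (MulAut Q) f) := by
        rw [zpowers_le]
        refine ⟨_, ?_, h.ind_self ha⟩
        rw [MulAction.mem_stabilizer_iff]
        change MulAut.conj (S.π i a) f = f
        rw [MulAut.conj_apply, hae, hef, mul_inv_cancel_right]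
      intro t ht
      obtain ⟨β, hβ, hb⟩ := h1 ht
      exact ⟨β, hb, hβ⟩) hf2
  refine ⟨a, ha, b, hb, ha2, hb2, hab a (mem_zpowers a), ?_, ?_, ?_⟩
  · rintro rfl
    rw [h.one] at hae
    exact he1 hae.symm
  · rintro rfl
    rw [h.one] at hbf
    exact hf1 hbf.symm
  · rintro rfl
    exact hfe (hbf.symm.trans hae)

theorem Ok.map_eq (h : S.Ok) (T : TBase Q) {g : G} (hg : g ∈ S.H) (i : ι) :
    ∃ j, S.F j = (S.F i).map (MulAut.conj g).toMonoidHom := by
  obtain ⟨j, hj⟩ := h.perm g hg i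
  obtain ⟨k, hk⟩ := h.perm g⁻¹ (S.H.inv_mem hg) j
  have hki : i = k := h.le_eq' T fun y hy => by
    have h1 := hk _ (hj y hy)
    have e : g⁻¹ * (g * y * g⁻¹) * g⁻¹⁻¹ = y := by group
    rwa [e] at h1
  subst hki
  refine ⟨j, ?_⟩
  ext x
  rw [Ctrl.mem_map_conj]
  constructor
  · intro hx
    have h1 := hk x hx
    rwa [inv_inv] at h1
  · intro hx
    have h1 := hj _ hx
    have e : g * (g⁻¹ * x * g) * g⁻¹ = x := by group
    rwa [e] at h1

/-- **`Ctrl` for a side with at least two components without adjacent involutions.** -/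
theorem Ok.ctrl_of [Finite G] [Nontrivial ι] (h : S.Ok) (T : TBase Q)
    (na1 : ∀ g, g ∉ S.H → ∀ i, ∀ v ∈ S.F i, g⁻¹ * v * g ∈ S.H → v * v = 1 → v = 1)
    (na3 : (∃ i j k : ι, i ≠ j ∧ i ≠ k ∧ j ≠ k) →
      ∀ g, g ∉ S.H → ∀ i y, S.Ind i y 1 → g⁻¹ * y * g ∈ S.H → y * y = 1 → y = 1) :
    Ctrl S.H S.W S.F where
  FH := h.FH
  odd := h.odd
  nrm := fun i j _ x hx y hy => h.norm_F' x hx y hy
  comm := h.comm
  perm := fun g hg i => h.map_eq T hg i
  indep := by
    intro i x hx hx'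
    have h1 := h.ind_uniq (h.ind_self hx) (h.ind_of_mem_iSup T hx')
    rw [← h.ker i x hx]
    by_contra h2
    exact T.conj_ne_one h2 h1
  rich := h.exists_four T
  sc := by
    intro i u hu hu2 hu1 g hg
    by_contra hgH
    have hgH' : g⁻¹ ∉ S.H := fun h1 => hgH (by rw [← inv_inv g]; exact S.H.inv_mem h1)
    have hg' : g⁻¹⁻¹ * u * g⁻¹ ∈ S.H := by rwa [inv_inv]
    obtain ⟨l, hl⟩ := exists_ne i
    by_cases h3 : ∃ m, m ≠ i ∧ m ≠ l
    · obtain ⟨m, hmi, hml⟩ := h3
      exact hu1 (na3 ⟨i, l, m, Ne.symm hl, Ne.symm hmi, Ne.symm hml⟩ g⁻¹ hgH' i u (h.ind_of_mem_iSup T hu) hg' hu2)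
    · push Not at h3
      have h4 : (⨆ j : {j // j ≠ i}, S.F j.1 : Subgroup G) ≤ S.F l :=
        iSup_le fun j => by rw [h3 j.1 j.2]
      exact hu1 (na1 g⁻¹ hgH' l u (h4 hu) hg' hu2)

end Side

end Cfsg.Agent.UGT.TT
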