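import Cfsg.Agent.UGT.SLCore

/-!
# THEOREM T, PIECE 5 (helper459 #10239): definitions

* `TFacts Q P`: the facts on `Q = PSL₂(q)`, `q ≥ 11` odd, and `P = PGL₂(q) ≤ Aut(Q)` that are used;
* `Side G Q ι`: a subgroup `H` of `G`, `W = O(H)`, subgroups `F i` (`i : ι`) with `F i / W ≅ Q` pairwise commuting
  modulo `W` and permuted by `H`; the isomorphisms are given by functions `π i : G → Q` (relevant on `F i` only);
* `Side.Ok`: the axioms, `t1`: `C_G(y) ≤ H` for every involution `y` of `H` centralising some `F i / W`;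
* `Pair S S'`: the cross conditions for two conjugates.
-/

set_option autoImplicit false

namespace Cfsg.Agent.UGT.TT

open Subgroup

universe u v w

/-- The facts on `Q = PSL₂(q)`, `q ≥ 11` odd, `P = PGL₂(q)`. -/
structure TFacts (Q : Type v) [Group Q] (P : Subgroup (MulAut Q)) : Prop where
  fin : Finite Q
  simple : IsSimpleGroup Q
  nab : ¬ ∀ x y : Q, x * y = y * x
  /-- `Q` contains an involution -/
  inv : ∃ e : Q, e * e = 1 ∧ e ≠ 1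
  /-- inner automorphisms are in `P` -/
  inn : ∀ q : Q, MulAut.conj q ∈ P
  /-- the centralizer in `Aut(Q)` of an involution of `P` contains no perfect group -/
  solv : ∀ α ∈ P, α * α = 1 → α ≠ 1 → ∀ J : Subgroup (MulAut Q), J ≤ ⁅J, J⁆ → (∀ β ∈ J, β * α = α * β) → J = ⊥
  /-- an involution outside `P` centralises a perfect group of even order -/
  field : ∀ α : MulAut Q, α * α = 1 → α ∉ P → ∃ J : Subgroup Q, J ≤ ⁅J, J⁆ ∧ (∀ x ∈ J, α x = x) ∧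
    ∃ e ∈ J, e * e = 1 ∧ e ≠ 1
  /-- `P` has 2-rank at most 2 -/
  rank : ∀ α ∈ P, ∀ β ∈ P, ∀ γ ∈ P, α * α = 1 → β * β = 1 → γ * γ = 1 → α * β = β * α → α * γ = γ * α →
    β * γ = γ * β → α = 1 ∨ β = 1 ∨ γ = 1 ∨ α * β = 1 ∨ α * γ = 1 ∨ β * γ = 1 ∨ α * β * γ = 1
  /-- `|P : Inn(Q)| ≤ 2` -/
  outer : ∀ α ∈ P, ∀ β ∈ P, (∀ q, α ≠ MulAut.conj q) → (∀ q, β ≠ MulAut.conj q) → ∃ q, α * β = MulAut.conj q
  /-- every involution of `Q` commutes with another one -/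
  four : ∀ e : Q, e * e = 1 → e ≠ 1 → ∃ f : Q, f * f = 1 ∧ f ≠ 1 ∧ f ≠ e ∧ e * f = f * e
  /-- an involution of `P - Inn(Q)` centralises an involution of `Q` -/
  fix : ∀ α ∈ P, α * α = 1 → (∀ q, α ≠ MulAut.conj q) → ∃ e : Q, e * e = 1 ∧ e ≠ 1 ∧ α e = e
  /-- generation, two inner involutions -/
  genII : ∀ e f : Q, e * e = 1 → e ≠ 1 → f * f = 1 → f ≠ 1 → f ≠ e → e * f = f * e → ∀ X : Subgroup Q,
    (∀ x, x * e = e * x → x ∈ X) → (∀ x, x * f = f * x → x ∈ X) → X = ⊤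
  /-- generation, an outer and an inner involution -/
  genOI : ∀ α ∈ P, α * α = 1 → (∀ q, α ≠ MulAut.conj q) → ∀ e : Q, e * e = 1 → e ≠ 1 → α e = e →
    ∀ X : Subgroup Q, (∀ x, α x = x → x ∈ X) → (∀ x, x * e = e * x → x ∈ X) → X = ⊤
  /-- generation, two outer involutions -/
  genOO : ∀ α ∈ P, α * α = 1 → (∀ q, α ≠ MulAut.conj q) → ∀ e : Q, e * e = 1 → e ≠ 1 → α e = e →
    ∀ X : Subgroup Q, (∀ x, α x = x → x ∈ X) → (∀ x, α (e * x * e⁻¹) = x → x ∈ X) → X = ⊤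

/-- One side: `H`, `W = O(H)`, `F i`, and the maps `F i → Q`. -/
structure Side (G : Type u) [Group G] (Q : Type v) [Group Q] (ι : Type w) where
  H : Subgroup G
  W : Subgroup G
  F : ι → Subgroup G
  π : ι → G → Q

namespace Side

variable {G : Type u} [Group G] {Q : Type v} [Group Q] {ι : Type w}

/-- The axioms of a side. -/
structure Ok (S : Side G Q ι) : Prop where
  WF : ∀ i, S.W ≤ S.F i
  FH : ∀ i, S.F i ≤ S.H
  odd : Odd (Nat.card S.W)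
  nW : ∀ h ∈ S.H, ∀ x ∈ S.W, h * x * h⁻¹ ∈ S.W
  map_mul : ∀ i, ∀ x ∈ S.F i, ∀ y ∈ S.F i, S.π i (x * y) = S.π i x * S.π i y
  surj : ∀ i, ∀ q : Q, ∃ x ∈ S.F i, S.π i x = q
  ker : ∀ i, ∀ x ∈ S.F i, S.π i x = 1 ↔ x ∈ S.W
  comm : ∀ i j, i ≠ j → ∀ x ∈ S.F i, ∀ y ∈ S.F j, x * y * x⁻¹ * y⁻¹ ∈ S.W
  perm : ∀ h ∈ S.H, ∀ i, ∃ j, ∀ x ∈ S.F i, h * x * h⁻¹ ∈ S.F j
  t1 : ∀ i, ∀ y ∈ S.H, (∀ x ∈ S.F i, y * x * y⁻¹ * x⁻¹ ∈ S.W) → y * y = 1 → y ≠ 1 → ∀ c : G, c * y = y * c → c ∈ S.H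

/-- `h ∈ H` normalises `F i` -/
def Nrm (S : Side G Q ι) (i : ι) (h : G) : Prop := h ∈ S.H ∧ ∀ x ∈ S.F i, h * x * h⁻¹ ∈ S.F i

/-- `h ∈ H` normalises `F i` and induces the automorphism `α` on `F i / W ≅ Q` -/
def Ind (S : Side G Q ι) (i : ι) (h : G) (α : MulAut Q) : Prop :=
  h ∈ S.H ∧ ∀ x ∈ S.F i, h * x * h⁻¹ ∈ S.F i ∧ S.π i (h * x * h⁻¹) = α (S.π i x)

end Side

/-- Two conjugate sides. -/
structure Pair {G : Type u} [Group G] {Q : Type v} [Group Q] {ι : Type w} (S S' : Side G Q ι) : Prop where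
  ok : S.Ok
  ok' : S'.Ok
  /-- no involution centralises components on both sides -/
  disj : ∀ i j y, S.Ind i y 1 → S'.Ind j y 1 → y * y = 1 → y = 1
  /-- `C_H(F i / W)` does not cover a component of the other side -/
  cov : ∀ i j, ∃ q : Q, ∀ x ∈ S'.F j, S'.π j x = q → ¬ S.Ind i x 1
  cov' : ∀ i j, ∃ q : Q, ∀ x ∈ S.F j, S.π j x = q → ¬ S'.Ind i x 1

theorem Pair.symm {G : Type u} [Group G] {Q : Type v} [Group Q] {ι : Type w} {S S' : Side G Q ι} (h : Pair S S') :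
    Pair S' S where
  ok := h.ok'
  ok' := h.ok
  disj := fun i j y h1 h2 h3 => h.disj j i y h2 h1 h3
  cov := h.cov'
  cov' := h.cov

end Cfsg.Agent.UGT.TT
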