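import Cfsg.Agent.UGT.TT.Basic

/-!
# THEOREM T, PIECE 5: (5a), (5b)

`v ∈ F i ∩ H'` an involution: `v` normalises every `F' j` and acts on it as an involution of `P = PGL₂(q)`.
-/

set_option autoImplicit false

namespace Cfsg.Agent.UGT.TT

open Subgroup
open scoped commutatorElement

universe u v w

variable {G : Type u} [Group G] {Q : Type v} [Group Q] {ι : Type w} {P : Subgroup (MulAut Q)}

namespace TFacts

theorem center (T : TFacts Q P) {q : Q} (h : ∀ x, q * x = x * q) : q = 1 := by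
  have := T.simple
  rcases IsSimpleGroup.eq_bot_or_eq_top_of_normal (Subgroup.center Q) inferInstance with h1 | h1
  · rw [← mem_bot, ← h1, mem_center_iff]
    intro x
    exact (h x).symm
  · exfalso
    apply T.nab
    intro x y
    have h2 : x ∈ Subgroup.center Q := by rw [h1]; trivial
    exact (mem_center_iff.mp h2 y).symm

theorem conj_inj (T : TFacts Q P) {p q : Q} (h : MulAut.conj p = MulAut.conj q) : p = q := by
  have h1 : q⁻¹ * p = 1 := by
    apply T.center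
    intro x
    have h2 := DFunLike.congr_fun h x
    rw [MulAut.conj_apply, MulAut.conj_apply] at h2
    calc q⁻¹ * p * x = q⁻¹ * (p * x * p⁻¹) * p := by group
      _ = q⁻¹ * (q * x * q⁻¹) * p := by rw [h2]
      _ = x * (q⁻¹ * p) := by group
  exact (inv_mul_eq_one.mp h1).symm

theorem conj_ne_one (T : TFacts Q P) {q : Q} (h : q ≠ 1) : (MulAut.conj q : MulAut Q) ≠ 1 := by
  intro h1
  apply h
  apply T.conj_inj
  rw [h1, map_one]

theorem perfect (T : TFacts Q P) : (⁅(⊤ : Subgroup Q), (⊤ : Subgroup Q)⁆ : Subgroup Q) = ⊤ := by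
  have := T.simple
  have hn : (⁅(⊤ : Subgroup Q), (⊤ : Subgroup Q)⁆ : Subgroup Q).Normal := inferInstance
  rcases IsSimpleGroup.eq_bot_or_eq_top_of_normal _ hn with h1 | h1
  · exfalso
    apply T.nab
    intro x y
    have h2 : ⁅x, y⁆ ∈ (⁅(⊤ : Subgroup Q), (⊤ : Subgroup Q)⁆ : Subgroup Q) :=
      commutator_mem_commutator (mem_top x) (mem_top y)
    rw [h1, mem_bot, commutatorElement_eq_one_iff_mul_comm] at h2
    exact h2
  · exact h1

theorem conj_sq {q : Q} (T : TFacts Q P) : (MulAut.conj q : MulAut Q) * MulAut.conj q = 1 ↔ q * q = 1 := by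
  rw [← map_mul]
  constructor
  · intro h
    apply T.conj_inj
    rw [h, map_one]
  · intro h
    rw [h, map_one]

end TFacts

/-- elements of the group generated by an involution -/
theorem mem_zpowers_inv {v t : G} (hv : v * v = 1) (ht : t ∈ zpowers v) : t = 1 ∨ t = v := by
  obtain ⟨k, rfl⟩ := mem_zpowers_iff.mp ht
  rcases Int.even_or_odd k with ⟨m, hm⟩ | ⟨m, hm⟩
  · left
    rw [hm, zpow_add, ← (Commute.refl v).mul_zpow, hv, one_zpow]
  · right
    rw [hm, zpow_add, zpow_one, two_mul, zpow_add, ← (Commute.refl v).mul_zpow, hv, one_zpow, one_mul]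

namespace Side

variable {S : Side G Q ι}

theorem Ok.inf (h : S.Ok) (T : TFacts Q P) {i j : ι} (hij : i ≠ j) {x : G} (hi : x ∈ S.F i) (hj : x ∈ S.F j) :
    x ∈ S.W := by
  rw [← h.ker i x hi]
  have h1 := h.ind_uniq (h.ind_self hi) (h.ind_other hij hj)
  by_contra h2
  exact T.conj_ne_one h2 h1

theorem Ok.le_eq (h : S.Ok) (T : TFacts Q P) {i j : ι} (hle : S.F i ≤ S.F j) : i = j := by
  by_contra hij
  obtain ⟨e, -, he⟩ := T.inv
  obtain ⟨x, hx, hxe⟩ := h.surj i e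
  have h1 := h.inf T hij hx (hle hx)
  rw [← h.ker i x hx, hxe] at h1
  exact he h1

theorem Ok.perm_inj (h : S.Ok) (T : TFacts Q P) {i k m : ι} {a : G} (ha : a ∈ S.H)
    (hi : ∀ x ∈ S.F i, a * x * a⁻¹ ∈ S.F m) (hk : ∀ x ∈ S.F k, a * x * a⁻¹ ∈ S.F m) : i = k := by
  obtain ⟨m', hm'⟩ := h.perm a⁻¹ (S.H.inv_mem ha) m
  have key : ∀ l, (∀ x ∈ S.F l, a * x * a⁻¹ ∈ S.F m) → l = m' := by
    intro l hl
    apply h.le_eq T
    intro x hx
    have h1 := hm' _ (hl x hx)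
    have h2 : a⁻¹ * (a * x * a⁻¹) * a⁻¹⁻¹ = x := by group
    rwa [h2] at h1
  rw [key i hi, key k hk]

/-- if there are two components, commutators normalise both -/
theorem Ok.comm_nrm [Finite G] (h : S.Ok) (T : TFacts Q P) {i k : ι} (hik : i ≠ k) (h2 : ∀ l, l = i ∨ l = k) {a b : G}
    (ha : a ∈ S.H) (hb : b ∈ S.H) : S.Nrm i ⁅a, b⁆ := by
  have key : ∀ a ∈ S.H, (S.Nrm i a ∧ S.Nrm k a) ∨
      ((∀ x ∈ S.F i, a * x * a⁻¹ ∈ S.F k) ∧ (∀ x ∈ S.F k, a * x * a⁻¹ ∈ S.F i)) := by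
    intro a ha
    obtain ⟨m, hm⟩ := h.perm a ha i
    obtain ⟨m', hm'⟩ := h.perm a ha k
    rcases h2 m with rfl | rfl
    · rcases h2 m' with h3 | rfl
      · exfalso
        rw [h3] at hm'
        exact hik (h.perm_inj T ha hm hm')
      · exact Or.inl ⟨⟨ha, hm⟩, ⟨ha, hm'⟩⟩
    · rcases h2 m' with rfl | h3
      · exact Or.inr ⟨hm, hm'⟩
      · exfalso
        rw [h3] at hm'
        exact hik (h.perm_inj T ha hm hm')
  have ha' := S.H.inv_mem ha
  have hb' := S.H.inv_mem hb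
  refine ⟨?_, ?_⟩
  · rw [commutatorElement_def]
    exact S.H.mul_mem (S.H.mul_mem (S.H.mul_mem ha hb) ha') hb'
  · intro x hx
    have e1 : ⁅a, b⁆ * x * ⁅a, b⁆⁻¹ = a * (b * (a⁻¹ * (b⁻¹ * x * b⁻¹⁻¹) * a⁻¹⁻¹) * b⁻¹) * a⁻¹ := by
      rw [commutatorElement_def]; group
    rw [e1]
    rcases key b hb with hb1 | hb1
    · have hb2 : S.Nrm i b⁻¹ := hb1.1.inv
      rcases key a ha with ha1 | ha1
      · exact ha1.1.2 _ (hb1.1.2 _ (ha1.1.inv.2 _ (hb2.2 x hx)))
      · rcases key a⁻¹ ha' with ha2 | ha2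
        · exfalso
          have h3 := ha2.1.inv
          rw [inv_inv] at h3
          apply hik
          apply h.perm_inj T ha (m := k) ha1.1
          exact (by
            have h4 := ha2.2.inv
            rw [inv_inv] at h4
            exact h4.2)
        · exact ha1.2 _ (hb1.2.2 _ (ha2.1 _ (hb2.2 x hx)))
    · rcases key b⁻¹ hb' with hb2 | hb2
      · exfalso
        apply hik
        apply h.perm_inj T hb (m := k) hb1.1
        have h4 := hb2.2.inv
        rw [inv_inv] at h4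
        exact h4.2
      · rcases key a ha with ha1 | ha1
        · exact ha1.1.2 _ (hb1.2 _ (ha1.2.inv.2 _ (hb2.1 x hx)))
        · rcases key a⁻¹ ha' with ha2 | ha2
          · exfalso
            apply hik
            apply h.perm_inj T ha (m := k) ha1.1
            have h4 := ha2.2.inv
            rw [inv_inv] at h4
            exact h4.2
          · exact ha1.2 _ (hb1.1 _ (ha2.2 _ (hb2.1 x hx)))

/-- A perfect group that normalises `F i` and centralises an involution of `P` acts trivially. -/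
theorem Ok.perfect_trivial [Finite G] (h : S.Ok) (T : TFacts Q P) {i : ι} {J : Subgroup G} (hJ : J ≤ ⁅J, J⁆)
    (hN : ∀ j ∈ J, S.Nrm i j) {v : G} {α : MulAut Q} (hv : S.Ind i v α) (hα : α ∈ P) (hα2 : α * α = 1)
    (hα1 : α ≠ 1) (hc : ∀ j ∈ J, j * v = v * j) : ∀ j ∈ J, S.Ind i j 1 := by
  have := T.fin
  have h1 := (h.rel i).im_perfect (fun h1 h2 => h.ind_uniq h1 h2) hJ (fun a ha => h.exists_ind (hN a ha))
  have h2 := T.solv α hα hα2 hα1 _ h1 (by
    rintro β ⟨j, hj, hβ⟩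
    exact h.ind_comm hβ hv (hc j hj))
  intro j hj
  obtain ⟨β, hβ⟩ := h.exists_ind (hN j hj)
  have h3 : β ∈ (h.rel i).im J := ⟨j, hj, hβ⟩
  rw [h2, mem_bot] at h3
  rwa [h3] at hβ

/-- The centralizer of an involution of `F i` normalises `F i`. -/
theorem Ok.cent_nrm [Finite G] (h : S.Ok) (T : TFacts Q P) {i l : ι} (hl : l ≠ i) {v : G} (hv : v ∈ S.F i)
    (hv2 : v * v = 1) (hv1 : v ≠ 1) {c : G} (hc : c * v = v * c) : S.Nrm i c := by
  have hcH : c ∈ S.H := h.t1' (h.ind_other hl hv) hv2 hv1 hc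
  obtain ⟨m, hm⟩ := h.perm c hcH i
  have h1 : v ∈ S.F m := by
    have h2 := hm v hv
    rwa [hc, mul_inv_cancel_right] at h2
  have h3 : m = i := by
    by_contra hne
    exact hv1 (h.one_of_W (h.inf T hne h1 hv) hv2)
  rw [h3] at hm
  exact ⟨hcH, hm⟩

theorem Ok.act_trivial [Finite G] (h : S.Ok) (T : TFacts Q P) {i l : ι} (hl : l ≠ i) {v : G} (hv : v ∈ S.F i)
    (hv2 : v * v = 1) (hv1 : v ≠ 1) {J : Subgroup G} (hJ : J ≤ ⁅J, J⁆) (hc : ∀ j ∈ J, j * v = v * j) :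
    ∀ j ∈ J, S.Ind i j 1 := by
  have h1 : S.π i v ≠ 1 := by
    intro h2
    rw [h.ker i v hv] at h2
    exact hv1 (h.one_of_W h2 hv2)
  have h2 : S.π i v * S.π i v = 1 := by rw [← h.map_mul i v hv v hv, hv2, h.one]
  exact h.perfect_trivial T hJ (fun j hj => h.cent_nrm T hl hv hv2 hv1 (hc j hj)) (h.ind_self hv) (T.inn _)
    (T.conj_sq.mpr h2) (T.conj_ne_one h1) hc

/-- fixed points of an involution acting on `F i` are in the image of a subgroup containing the centralizer -/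
theorem Ok.fix_le [Finite G] (h : S.Ok) {i : ι} {y : G} {β : MulAut Q} (hy : S.Ind i y β) (hy2 : y * y = 1)
    {X : Subgroup G} (hX : ∀ c, c * y = y * c → c ∈ X) {q : Q} (hq : β q = q) : q ∈ h.img i X := by
  obtain ⟨x, hx, hxq⟩ := h.surj i q
  obtain ⟨w, hw, hww⟩ := h.exists_fix (T := zpowers y) (Cfsg.Agent.UGT.SL.two_isPGroup hy2) (q := q) (by
    intro t ht
    rcases mem_zpowers_inv hy2 ht with rfl | rfl
    · exact ⟨1, Ind.one, rfl⟩
    · exact ⟨β, hy, hq⟩) hx hxq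
  refine ⟨x * w, (S.F i).mul_mem hx (h.WF i hw), hX _ (hww y (mem_zpowers y)).symm, ?_⟩
  rw [h.map_mul i x hx w (h.WF i hw), (h.ker i w (h.WF i hw)).mpr hw, mul_one, hxq]

/-- a subgroup covering a perfect subgroup which contains an involution has an involution -/
theorem Ok.exists_inv_of_cover [Finite G] (h : S.Ok) {i : ι} {J : Subgroup G} {y : G} {β : MulAut Q} (hy : y ∈ J)
    (hβ : S.Ind i y β) (hβ2 : β * β = 1) (hβ1 : β ≠ 1) : ∃ z ∈ J, z * z = 1 ∧ z ≠ 1 := by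
  apply exists_inv_of_even hy
  intro hodd
  apply hβ1
  obtain ⟨m, hm⟩ := hodd
  have h1 : ∀ n : ℕ, S.Ind i (y ^ n) (β ^ n) := by
    intro n
    induction n with
    | zero => rw [pow_zero, pow_zero]; exact Ind.one
    | succ n ih => rw [pow_succ, pow_succ]; exact ih.mul hβ
  have h2 := h1 (orderOf y)
  rw [pow_orderOf_eq_one] at h2
  have h3 := h.ind_uniq h2 Ind.one
  rw [hm, pow_succ, pow_mul, pow_two, hβ2, one_pow, one_mul] at h3
  exact h3

end Side

/-- `v` is an involution of `F i ∩ H'`. -/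
structure Adj (S S' : Side G Q ι) (i : ι) (v : G) : Prop where
  mem : v ∈ S.F i
  mem' : v ∈ S'.H
  sq : v * v = 1
  ne : v ≠ 1

section pair

variable {S S' : Side G Q ι}

/-- `v` acts nontrivially on every component of the other side -/
theorem ind_ne_one (hP : Pair S S') {i l : ι} (hl : l ≠ i) {v : G} (A : Adj S S' i v) {j : ι} {β : MulAut Q}
    (hβ : S'.Ind j v β) : β ≠ 1 := by
  rintro rfl
  exact A.ne (hP.disj l j v (hP.ok.ind_other hl A.mem) hβ A.sq)

/-- (5b) -/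
theorem ind_mem [Finite G] (hP : Pair S S') (T : TFacts Q P) [Nontrivial ι] {i : ι} {v : G} (A : Adj S S' i v) {j : ι}
    {β : MulAut Q} (hβ : S'.Ind j v β) : β ∈ P := by
  have := T.fin
  obtain ⟨l, hl⟩ := exists_ne i
  obtain ⟨m, hm⟩ := exists_ne j
  by_contra hcon
  obtain ⟨JJ, hJJ, hfix, e, he, he2, he1⟩ := T.field β (hP.ok'.ind_sq hβ A.sq) hcon
  -- the centralizer of `v` in `F' j` covers `JJ`
  have hcov : JJ.map (MulAut.conj : Q →* MulAut Q) ≤ (hP.ok'.rel j).im (S'.F j ⊓ centralizer ({v} : Set G)) := by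
    rintro _ ⟨q, hq, rfl⟩
    obtain ⟨x, hx, hxX, hxq⟩ := hP.ok'.fix_le hβ A.sq (X := centralizer ({v} : Set G))
      (fun c hc => mem_centralizer_singleton_iff.mpr hc) (hfix q hq)
    refine ⟨x, ⟨hx, hxX⟩, ?_⟩
    have h1 := hP.ok'.ind_self hx
    rwa [hxq] at h1
  have hperf : JJ.map (MulAut.conj : Q →* MulAut Q) ≤
      ⁅JJ.map (MulAut.conj : Q →* MulAut Q), JJ.map (MulAut.conj : Q →* MulAut Q)⁆ := by
    rw [← map_commutator]
    exact Subgroup.map_mono hJJ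
  obtain ⟨J, hJA, hJp, hJcov⟩ := (hP.ok'.rel j).exists_perfect hcov hperf
  have htriv := hP.ok.act_trivial T hl A.mem A.sq A.ne hJp
    (fun x hx => mem_centralizer_singleton_iff.mp (hJA hx).2)
  obtain ⟨y, hy, hyβ⟩ := hJcov ⟨e, he, rfl⟩
  obtain ⟨z, hz, hz2, hz1⟩ := hP.ok'.exists_inv_of_cover hy hyβ (T.conj_sq.mpr he2) (T.conj_ne_one he1)
  exact hz1 (hP.disj i m z (htriv z hz) (hP.ok'.ind_other hm (hJA hz).1) hz2)

/-- (5a) -/
theorem nrm [Finite G] (hP : Pair S S') (T : TFacts Q P) [Nontrivial ι] {i : ι} {v : G} (A : Adj S S' i v) (j : ι) :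
    S'.Nrm j v := by
  have := T.fin
  have hok := hP.ok
  have hok' := hP.ok'
  obtain ⟨l, hl⟩ := exists_ne i
  obtain ⟨k, hk⟩ := hok'.perm v A.mem' j
  by_cases hkj : k = j
  · rw [hkj] at hk
    exact ⟨A.mem', hk⟩
  exfalso
  -- the centralizer of `v` acting innerly on `F' j`, trivially on the others
  let AA : Subgroup G :=
    { carrier := {a | a * v = v * a ∧ (∃ q, S'.Ind j a (MulAut.conj q)) ∧ ∀ m, m ≠ j → m ≠ k → S'.Ind m a 1}
      one_mem' := ⟨by rw [one_mul, mul_one], ⟨1, by rw [map_one]; exact Side.Ind.one⟩, fun m _ _ => Side.Ind.one⟩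
      mul_mem' := by
        rintro a b ⟨ha, ⟨p, hp⟩, ha'⟩ ⟨hb, ⟨q, hq⟩, hb'⟩
        refine ⟨by rw [mul_assoc, hb, ← mul_assoc, ha, mul_assoc], ⟨p * q, by rw [map_mul]; exact hp.mul hq⟩,
          fun m h1 h2 => ?_⟩
        have h3 := (ha' m h1 h2).mul (hb' m h1 h2)
        rwa [one_mul] at h3
      inv_mem' := by
        rintro a ⟨ha, ⟨p, hp⟩, ha'⟩
        refine ⟨by rw [inv_mul_eq_iff_eq_mul, ← mul_assoc, ha, mul_inv_cancel_right],
          ⟨p⁻¹, by rw [map_inv]; exact hp.inv hok'⟩, fun m h1 h2 => ?_⟩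
        have h3 := (ha' m h1 h2).inv hok'
        rwa [inv_one] at h3 }
  have hcov : (⊤ : Subgroup Q).map (MulAut.conj : Q →* MulAut Q) ≤ (hok'.rel j).im AA := by
    rintro _ ⟨q, -, rfl⟩
    obtain ⟨x, hx, hxq⟩ := hok'.surj j q
    have hvx := hk x hx
    obtain ⟨w, hw, hww⟩ := exists_fix_coset (x := x * (v * x * v⁻¹)) hok'.odd (Cfsg.Agent.UGT.SL.two_isPGroup A.sq)
      (fun t ht w hw => by
        rcases mem_zpowers_inv A.sq ht with rfl | rfl
        · simpa using hw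
        · exact hok'.nW t A.mem' w hw) (fun t ht => by
        rcases mem_zpowers_inv A.sq ht with rfl | rfl
        · have h1 : (x * (v * x * v⁻¹))⁻¹ * (1 * (x * (v * x * v⁻¹)) * 1⁻¹) = 1 := by group
          rw [h1]
          exact S'.W.one_mem
        · have h1 := hok'.comm k j hkj _ ((S'.F k).inv_mem hvx) _ ((S'.F j).inv_mem hx)
          have h2 : (x * (t * x * t⁻¹))⁻¹ * (t * (x * (t * x * t⁻¹)) * t⁻¹) =
              (t * x * t⁻¹)⁻¹ * x⁻¹ * (t * x * t⁻¹) * ((t * t) * x * (t * t)⁻¹) := by group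
          rw [h2, A.sq]
          have h3 : (t * x * t⁻¹)⁻¹ * x⁻¹ * (t * x * t⁻¹) * (1 * x * 1⁻¹) =
              (t * x * t⁻¹)⁻¹ * x⁻¹ * (t * x * t⁻¹)⁻¹⁻¹ * x⁻¹⁻¹ := by group
          rw [h3]
          exact h1)
    refine ⟨x * (v * x * v⁻¹) * w, ⟨(hww v (mem_zpowers v)).symm, ⟨q, ?_⟩, ?_⟩, ?_⟩
    · have h1 := ((hok'.ind_self hx).mul (hok'.ind_other (Ne.symm hkj) hvx)).mul (hok'.ind_W (i := j) hw)
      rwa [mul_one, mul_one, hxq] at h1
    · intro m h1 h2
      have h3 := ((hok'.ind_other h1 hx).mul (hok'.ind_other h2 hvx)).mul (hok'.ind_W (i := m) hw)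
      rwa [mul_one, mul_one] at h3
    · have h1 := ((hok'.ind_self hx).mul (hok'.ind_other (Ne.symm hkj) hvx)).mul (hok'.ind_W (i := j) hw)
      rwa [mul_one, mul_one, hxq] at h1
  have hperf : (⊤ : Subgroup Q).map (MulAut.conj : Q →* MulAut Q) ≤
      ⁅(⊤ : Subgroup Q).map (MulAut.conj : Q →* MulAut Q), (⊤ : Subgroup Q).map (MulAut.conj : Q →* MulAut Q)⁆ := by
    rw [← map_commutator, T.perfect]
  obtain ⟨J, hJA, hJp, hJcov⟩ := (hok'.rel j).exists_perfect hcov hperf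
  have htriv := hok.act_trivial T hl A.mem A.sq A.ne hJp (fun x hx => (hJA hx).1)
  obtain ⟨e, he2, he1⟩ := T.inv
  obtain ⟨y0, hy0, hy0β⟩ := hJcov ⟨e, mem_top e, rfl⟩
  obtain ⟨y, hy, hy2, hy1⟩ := hok'.exists_inv_of_cover hy0 hy0β (T.conj_sq.mpr he2) (T.conj_ne_one he1)
  by_cases hm : ∃ m, m ≠ j ∧ m ≠ k
  · obtain ⟨m, hm1, hm2⟩ := hm
    exact hy1 (hP.disj i m y (htriv y hy) ((hJA hy).2.2 m hm1 hm2) hy2)
  push Not at hm
  have hjk : ∀ m, m = j ∨ m = k := by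
    intro m
    by_cases h1 : m = j
    · exact Or.inl h1
    · exact Or.inr (hm m h1)
  have hik : ∃ k', i ≠ k' ∧ ∀ m, m = i ∨ m = k' := by
    rcases hjk i with rfl | rfl
    · exact ⟨k, Ne.symm hkj, hjk⟩
    · exact ⟨j, hkj, fun m => (hjk m).symm⟩
  obtain ⟨k', hik', hall⟩ := hik
  have := T.simple
  -- `H ∩ F' j` covers
  have hX : hok'.img j S.H = ⊤ := by
    have hn : (hok'.img j S.H).Normal := by
      refine ⟨fun p hp q => ?_⟩
      obtain ⟨x, hx, hxH, rfl⟩ := hp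
      obtain ⟨a, ha, haq⟩ := hJcov ⟨q, mem_top q, rfl⟩
      refine ⟨a * x * a⁻¹, (haq.2 x hx).1, S.H.mul_mem (S.H.mul_mem (htriv a ha).1 hxH)
        (S.H.inv_mem (htriv a ha).1), ?_⟩
      rw [(haq.2 x hx).2]
      rfl
    rcases IsSimpleGroup.eq_bot_or_eq_top_of_normal _ hn with h1 | h1
    · exfalso
      obtain ⟨q0, hq0⟩ := (hJA hy).2.1
      have hfix : ∀ p, MulAut.conj q0 p = p → p = 1 := by
        intro p hp
        have h2 := hok'.fix_le hq0 hy2 (X := S.H) (fun c hc => hok.t1' (htriv y hy) hy2 hy1 hc) hp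
        rwa [h1, mem_bot] at h2
      have h3 := hfix q0 (by rw [MulAut.conj_apply, mul_inv_cancel_right])
      apply he1
      apply hfix e
      rw [h3, map_one, MulAut.one_apply]
    · exact h1
  have hR : hok'.img j (S.N i) = ⊤ := by
    rw [eq_top_iff, ← T.perfect, commutator_le]
    intro p _ q _
    obtain ⟨x, hx, hxH, rfl⟩ : p ∈ hok'.img j S.H := by rw [hX]; trivial
    obtain ⟨y, hy, hyH, rfl⟩ : q ∈ hok'.img j S.H := by rw [hX]; trivial
    have hxy : ⁅x, y⁆ = x * y * x⁻¹ * y⁻¹ := commutatorElement_def x y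
    refine ⟨⁅x, y⁆, ?_, hok.comm_nrm T hik' hall hxH hyH, ?_⟩
    · rw [hxy]
      exact (S'.F j).mul_mem ((S'.F j).mul_mem ((S'.F j).mul_mem hx hy) ((S'.F j).inv_mem hx))
        ((S'.F j).inv_mem hy)
    · rw [hxy, hok'.map_mul j _ ((S'.F j).mul_mem ((S'.F j).mul_mem hx hy) ((S'.F j).inv_mem hx)) _
        ((S'.F j).inv_mem hy), hok'.conj hx hy, hok'.inv hy, commutatorElement_def]
  have hY : ∀ q : Q, ∃ x ∈ S'.F j, S'.π j x = q ∧ S.Ind i x 1 := by
    have h1 : hok'.img j ((hok.rel i).pre ⊥) = ⊤ := by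
      rw [eq_top_iff, ← T.perfect, commutator_le]
      intro p _ q _
      obtain ⟨a, ha, hap⟩ := hJcov ⟨p, mem_top p, rfl⟩
      obtain ⟨x, hx, hxN, rfl⟩ : q ∈ hok'.img j (S.N i) := by rw [hR]; trivial
      obtain ⟨γ, hγ⟩ := hok.exists_ind hxN
      refine ⟨a * x * a⁻¹ * x⁻¹, (S'.F j).mul_mem (hap.2 x hx).1 ((S'.F j).inv_mem hx), ⟨1, mem_bot.mpr rfl, ?_⟩, ?_⟩
      · have h2 := (((htriv a ha).mul hγ).mul ((htriv a ha).inv hok)).mul (hγ.inv hok)
        rwa [one_mul, inv_one, mul_one, mul_inv_cancel] at h2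
      · rw [hok'.map_mul j _ (hap.2 x hx).1 _ ((S'.F j).inv_mem hx), (hap.2 x hx).2, hok'.inv hx, MulAut.conj_apply,
          commutatorElement_def]
    intro q
    obtain ⟨x, hx, ⟨β, hβ, hxβ⟩, hxq⟩ : q ∈ hok'.img j ((hok.rel i).pre ⊥) := by rw [h1]; trivial
    rw [mem_bot] at hβ
    rw [hβ] at hxβ
    exact ⟨x, hx, hxq, hxβ⟩
  obtain ⟨q, hq⟩ := hP.cov i j
  obtain ⟨x, hx, hxq, hx1⟩ := hY q
  exact hq x hx hxq hx1

end pair

end Cfsg.Agent.UGT.TT
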