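import Cfsg.Agent.UGT.TT.All
import Cfsg.Agent.UGT.TT.BaseCtrl

/-!
# THEOREM T: `Ctrl` for a side with at least two components

`Side.Ok.ctrl`: a side with at least two components satisfying (T1) and (T2) is a configuration `Ctrl S.H S.W S.F`.
-/

set_option autoImplicit false

namespace Cfsg.Agent.UGT.TT

open Subgroup

universe u v w

variable {G : Type u} [Group G] {Q : Type v} [Group Q] {ι : Type w} {P : Subgroup (MulAut Q)}

/-- **`Ctrl` for a side with at least two components.** -/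
theorem Side.Ok.ctrl [Finite G] [Nontrivial ι] {S : Side G Q ι} (h : S.Ok) (T : TFacts Q P)
    (t2 : ∀ (g : G) (i j : ι) (y : G), S.Ind i y 1 → S.Ind j (g⁻¹ * y * g) 1 → y * y = 1 → y ≠ 1 → g ∈ S.H) :
    Ctrl S.H S.W S.F :=
  h.ctrl_of T.base (fun _ hg _ _ hv hv' hv2 => noAdj_conj h T t2 hg hv hv' hv2)
    (fun ⟨_, _, _, h1, h2, h3⟩ _ hg _ _ hy hy' hy2 => noAdj_all_conj h T h1 h2 h3 t2 hg hy hy' hy2)

end Cfsg.Agent.UGT.TT
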